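import Groth.Agent.VolLib.Main
import Groth.Agent.HilbLib.Basic
import Groth.Agent.HilbLib.Positive

/-!
# Growth of the cohomology of twists by powers of an invertible module
-/

set_option autoImplicit false
set_option backward.isDefEq.respectTransparency false
set_option linter.style.haveILetI false

universe u

open CategoryTheory CategoryTheory.Limits AlgebraicGeometry TopologicalSpace Opposite
open Groth.Agent.DCohLib Groth.Agent.AmpleLib Groth.Agent.DevLib Groth.Agent.QCohLib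

noncomputable section

namespace Groth.Agent.HiGrowth

variable (k : Type u) [Field k] {X : Scheme.{u}} [X.Over (Spec (CommRingCat.of k))]

/-- `dim H^i(M ⊗ L^m)`. -/
abbrev hi (L M : X.Modules) (i m : ℕ) : ℕ := Module.finrank k (Coh.HH X (ShStab.twist X L M m) i)

/-- The model bound for modules of support of dimension less than `n`. -/
def B : ℕ → ℕ → ℕ
  | 0, _ => 0
  | n + 1, m => (m + 1) ^ n

theorem B_mono {n a b : ℕ} (h : a ≤ b) : B n a ≤ B n b := by
  cases n with
  | zero => simp [B]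
  | succ n => exact Nat.pow_le_pow_left (by omega) n

theorem B_add_le (n m : ℕ) : (m + 1) ^ n + B n m ≤ (m + 2) ^ n := by
  cases n with
  | zero => simp [B]
  | succ n =>
    show (m + 1) ^ (n + 1) + (m + 1) ^ n ≤ _
    rw [pow_succ (m + 2), pow_succ, ← Nat.mul_succ]
    exact Nat.mul_le_mul_right _ (Nat.pow_le_pow_left (by omega) n)

theorem hh_congr {M N : X.Modules} (e : M ≅ N) (i : ℕ) :
    Module.finrank k (Coh.HH X M i) = Module.finrank k (Coh.HH X N i) :=
  ((ProjCoh.hhLinearEquiv e i).toAddEquiv.toLinearEquiv fun c x =>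
    map_smul (ProjCoh.hhLinearEquiv e i) (Coh.toGlobal (X ↘ Spec (CommRingCat.of k)) c) x).finrank_eq

theorem hi_congr (L : X.Modules) {M N : X.Modules} (e : M ≅ N) (i m : ℕ) : hi k L M i m = hi k L N i m :=
  hh_congr k (tIso e (Iso.refl (CohB1.tensorPow L m))) i

/-- The bound by the model. -/
def BoundLT (L M : X.Modules) (n : ℕ) : Prop := ∀ i, ∃ C, ∀ m, hi k L M i m ≤ C * B n m

/-- The same cohomology up to the model. -/
def Near (L : X.Modules) (n : ℕ) (M N : X.Modules) : Prop :=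
  ∀ i, ∃ C, ∀ m, hi k L M i m ≤ hi k L N i m + C * B n m ∧ hi k L N i m ≤ hi k L M i m + C * B n m

theorem Near.symm {L M N : X.Modules} {n : ℕ} (h : Near k L n M N) : Near k L n N M := fun i => by
  obtain ⟨C, hC⟩ := h i
  exact ⟨C, fun m => ⟨(hC m).2, (hC m).1⟩⟩

theorem Near.trans {L M N P : X.Modules} {n : ℕ} (h : Near k L n M N) (h' : Near k L n N P) :
    Near k L n M P := fun i => by
  obtain ⟨C, hC⟩ := h i
  obtain ⟨D, hD⟩ := h' i
  refine ⟨C + D, fun m => ?_⟩
  obtain ⟨h1, h2⟩ := hC m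
  obtain ⟨h3, h4⟩ := hD m
  rw [Nat.add_mul]
  omega

theorem near_iso (L : X.Modules) (n : ℕ) {M N : X.Modules} (e : M ≅ N) : Near k L n M N :=
  fun i => ⟨0, fun m => by rw [hi_congr k L e i m]; simp⟩

omit k in
theorem subsingleton_HH_of_isZero {M : X.Modules} (hM : IsZero M) (p : ℕ) : Subsingleton (Coh.HH X M p) := by
  have hz : IsZero ((QCohLib.toAbF X).obj M) := (QCohLib.toAbF X).map_isZero hM
  refine subsingleton_of_forall_eq 0 fun x => ?_
  rw [← Sheaf.H.map_id_apply (x := x), hz.eq_of_src (𝟙 _) 0]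
  show x.comp (Abelian.Ext.mk₀ 0) (add_zero p) = 0
  rw [Abelian.Ext.mk₀_zero, Abelian.Ext.comp_zero]

variable [IsProper (X ↘ Spec (CommRingCat.of k))]

omit [IsProper (X ↘ Spec (CommRingCat.of k))] in
theorem shortExact_twist {L : X.Modules} (hL : PicF.IsInvertible L) {S : ShortComplex X.Modules}
    (hS : S.ShortExact) (m : ℕ) : (S.map (CurveLib.tensR (CohB1.tensorPow L m))).ShortExact :=
  CurveLib.shortExact_tensR hS fun x =>
    CurveLib.freeAt_one_of_isInvertible (isInvertible_tensorPow hL m) x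

/-- The three inequalities of a long exact sequence. -/
theorem ineqs₀ {S : ShortComplex X.Modules} (hS : S.ShortExact)
    (h₁ : Coh.IsCoh S.X₁) (h₂ : Coh.IsCoh S.X₂) (h₃ : Coh.IsCoh S.X₃) (i : ℕ) :
    Module.finrank k (Coh.HH X S.X₁ i) ≤ Module.finrank k (Coh.HH X S.X₂ i) + Module.finrank k (Coh.HH X S.X₃ (i - 1)) ∧
      Module.finrank k (Coh.HH X S.X₂ i) ≤ Module.finrank k (Coh.HH X S.X₁ i) + Module.finrank k (Coh.HH X S.X₃ i) ∧
      Module.finrank k (Coh.HH X S.X₃ i) ≤ Module.finrank k (Coh.HH X S.X₂ i) + Module.finrank k (Coh.HH X S.X₁ (i + 1)) := by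
  haveI := EulerIneqLib.isNoetherian_proper (X := X) k
  haveI := fun j => EulerIneqLib.finite_HH (k := k) h₁ j
  haveI := fun j => EulerIneqLib.finite_HH (k := k) h₂ j
  haveI := fun j => EulerIneqLib.finite_HH (k := k) h₃ j
  refine ⟨?_, EulerIneqLib.finrank_le_add _ _ (CurveLib.range_hMap_f hS i),
    EulerIneqLib.finrank_le_add _ _ (CurveLib.range_hMap_g hS i)⟩
  cases i with
  | zero =>
    exact le_add_right (LinearMap.finrank_le_finrank_of_injective
      (CurveLib.hMap_f_zero_injective (k := k) hS))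
  | succ i =>
    exact (EulerIneqLib.finrank_le_add _ _ (CurveLib.range_hδ hS i)).trans_eq (Nat.add_comm _ _)

/-- The three inequalities for twists. -/
theorem ineqs {L : X.Modules} (hL : PicF.IsInvertible L) {S : ShortComplex X.Modules} (hS : S.ShortExact)
    (h₁ : Coh.IsCoh S.X₁) (h₂ : Coh.IsCoh S.X₂) (h₃ : Coh.IsCoh S.X₃) (i m : ℕ) :
    hi k L S.X₁ i m ≤ hi k L S.X₂ i m + hi k L S.X₃ (i - 1) m ∧
      hi k L S.X₂ i m ≤ hi k L S.X₁ i m + hi k L S.X₃ i m ∧
      hi k L S.X₃ i m ≤ hi k L S.X₂ i m + hi k L S.X₁ (i + 1) m := by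
  haveI := EulerIneqLib.isNoetherian_proper (X := X) k
  exact ineqs₀ k (shortExact_twist hL hS m) (HilbLib.isCoh_twist hL h₁ m) (HilbLib.isCoh_twist hL h₂ m)
    (HilbLib.isCoh_twist hL h₃ m) i

variable {L : X.Modules} (hL : PicF.IsInvertible L) {n : ℕ}

include hL

theorem near_of_small_right {S : ShortComplex X.Modules} (hS : S.ShortExact)
    (h₁ : Coh.IsCoh S.X₁) (h₂ : Coh.IsCoh S.X₂) (h₃ : Coh.IsCoh S.X₃) (h : BoundLT k L S.X₃ n) :
    Near k L n S.X₁ S.X₂ := fun i => by
  obtain ⟨C, hC⟩ := h i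
  obtain ⟨D, hD⟩ := h (i - 1)
  refine ⟨C + D, fun m => ?_⟩
  obtain ⟨e1, e2, -⟩ := ineqs k hL hS h₁ h₂ h₃ i m
  have := hC m
  have := hD m
  rw [Nat.add_mul]
  omega

theorem near_of_small_left {S : ShortComplex X.Modules} (hS : S.ShortExact)
    (h₁ : Coh.IsCoh S.X₁) (h₂ : Coh.IsCoh S.X₂) (h₃ : Coh.IsCoh S.X₃) (h : BoundLT k L S.X₁ n) :
    Near k L n S.X₂ S.X₃ := fun i => by
  obtain ⟨C, hC⟩ := h i
  obtain ⟨D, hD⟩ := h (i + 1)
  refine ⟨C + D, fun m => ?_⟩
  obtain ⟨-, e2, e3⟩ := ineqs k hL hS h₁ h₂ h₃ i m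
  have := hC m
  have := hD m
  rw [Nat.add_mul]
  omega

omit k in
omit hL in
/-- The stalk of an invertible twist. -/
theorem isTF_hk {ξ : X} {Q : X.Modules} (hQ : IsPiece ξ Q) :
    ∀ a ∈ IsLocalRing.maximalIdeal (X.presheaf.stalk ξ), ∀ z : Q.presheaf.stalk ξ, a • z = 0 := by
  obtain ⟨m₀, hm₀, ⟨e₀⟩⟩ := isSimpleModule_iff_quot_maximal.1 hQ.simple
  intro a ha z
  obtain ⟨r, hr⟩ := Submodule.Quotient.mk_surjective m₀ (e₀ z)
  refine e₀.injective ?_
  rw [map_smul, map_zero, ← hr, ← Submodule.Quotient.mk_smul]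
  refine (Submodule.Quotient.mk_eq_zero _).2 (Ideal.mul_mem_right r _ ?_)
  rwa [IsLocalRing.eq_maximalIdeal hm₀]

/-- Torsion-free modules with the same stalk, annihilated by the maximal ideal. -/
theorem near_of_common {ξ : X} {Q G : X.Modules} (hQc : Coh.IsCoh Q) (hGc : Coh.IsCoh G)
    (hQs : ∀ y ∈ CohB1.support Q, ξ ⤳ y) (hGs : ∀ y ∈ CohB1.support G, ξ ⤳ y)
    (hQtf : ∀ (V : X.Opens) (s : Γ(Q, V)), (∀ hx : ξ ∈ V, Q.presheaf.germ V ξ hx s = 0) → s = 0)
    (hGtf : ∀ (V : X.Opens) (s : Γ(G, V)), (∀ hx : ξ ∈ V, G.presheaf.germ V ξ hx s = 0) → s = 0)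
    (hQk : ∀ a ∈ IsLocalRing.maximalIdeal (X.presheaf.stalk ξ), ∀ z : Q.presheaf.stalk ξ, a • z = 0)
    (θ : Q.presheaf.stalk ξ ≃ₗ[X.presheaf.stalk ξ] G.presheaf.stalk ξ)
    (small : ∀ N : X.Modules, Coh.IsCoh N → (∀ y ∈ CohB1.support N, ξ ⤳ y) → ξ ∉ CohB1.support N →
      BoundLT k L N n) :
    Near k L n Q G := by
  haveI := EulerIneqLib.isNoetherian_proper (X := X) k
  obtain ⟨H, p, q, hH, hp, hq, hps, hqs⟩ := exists_common' hQc hGc hQtf hGtf hQk θ
  have cp := (isCoh_kernel_cokernel p hH hQc).2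
  have cq := (isCoh_kernel_cokernel q hH hGc).2
  exact (Near.symm k (near_of_small_right k hL (S := cokerSeq p) (cokerSeq_shortExact p) hH hQc cp
      (small _ cp (supp_coker p hQs) (notMem_support_coker p hps)))).trans k
    (near_of_small_right k hL (S := cokerSeq q) (cokerSeq_shortExact q) hH hGc cq
      (small _ cq (supp_coker q hGs) (notMem_support_coker q hqs)))

/-- Cohomology of twists grows with the dimension of the support. -/
theorem boundLT : ∀ (n : ℕ) (M : X.Modules), Coh.IsCoh M →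
    topologicalKrullDim (CohB1.support M) < (n : WithBot ℕ∞) → BoundLT k L M n := by
  haveI := EulerIneqLib.isNoetherian_proper (X := X) k
  have hzero : ∀ (n : ℕ) (A : X.Modules), IsZero A → BoundLT k L A n := fun n A hA i => ⟨0, fun m => by
    have hz : IsZero (ShStab.twist X L A m) :=
      (CurveLib.tensR (CohB1.tensorPow L m)).map_isZero hA
    haveI : Subsingleton (Coh.HH X (ShStab.twist X L A m) i) := subsingleton_HH_of_isZero hz i
    rw [zero_mul]
    exact Module.finrank_zero_of_subsingleton.le⟩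
  intro n
  induction n with
  | zero =>
    intro M _ hd
    refine hzero _ _ (isZero_of_support_empty (Set.not_nonempty_iff_eq_empty.1 fun ⟨x, hx⟩ => ?_))
    haveI : Nonempty (CohB1.support M) := ⟨⟨x, hx⟩⟩
    haveI : Nonempty (IrreducibleCloseds (CohB1.support M)) :=
      ⟨⟨closure {⟨x, hx⟩}, isIrreducible_singleton.closure, isClosed_closure⟩⟩
    have h0 : (0 : WithBot ℕ∞) ≤ topologicalKrullDim (CohB1.support M) := Order.krullDim_nonneg
    exact not_lt.2 h0 (by simpa using hd)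
  | succ n ih =>
    intro M hM hd
    refine devissage (CohB1.support M) (fun N => BoundLT k L N (n + 1))
      (fun A A' ⟨e⟩ h i => ?_) (hzero _) ?_ ?_ M hM subset_rfl
    · obtain ⟨C, hC⟩ := h i
      exact ⟨C, fun m => (hi_congr k L e i m).symm.trans_le (hC m)⟩
    · intro S hS h₁ h₂ h₃ _ hP hQ i
      obtain ⟨C, hC⟩ := hP i
      obtain ⟨D, hD⟩ := hQ i
      refine ⟨C + D, fun m => ((ineqs k hL hS h₁ h₂ h₃ i m).2.1).trans ?_⟩
      rw [Nat.add_mul]
      exact Nat.add_le_add (hC m) (hD m)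
    intro ξ _ hξT Q hQ _
    have hd' := HilbLib.isClosed_closure_le hξT hd
    have small : ∀ N : X.Modules, Coh.IsCoh N → (∀ y ∈ CohB1.support N, ξ ⤳ y) → ξ ∉ CohB1.support N →
        BoundLT k L N n := fun N hN hs hξ => ih N hN (HilbLib.dim_lt_of_notMem (isClosed_support hN)
          (fun y hy => specializes_iff_mem_closure.1 (hs y hy)) hξ hd')
    have hQL : Coh.IsCoh (tmod Q L) := CurveLib.isCoh_tmod hQ.coh (CurveLib.isCoh_of_isInvertible hL)
    obtain ⟨S, hS, h1, h2, h3, htf, hs3, hs1, hn1, ⟨e⟩, ⟨θ⟩⟩ := exists_tfQuot (ξ := ξ) hQL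
      (by rw [HilbLib.support_tensor hL]; exact hQ.supp)
    obtain ⟨eL⟩ := HilbLib.nonempty_stalk_equiv hL Q ξ
    have hnear : Near k L n (tmod Q L) Q :=
      ((near_iso k L n e.symm).trans k (near_of_small_left k hL hS h1 h2 h3 (small _ h1 hs1 hn1))).trans k
        (Near.symm k (near_of_common k hL hQ.coh h3 hQ.supp hs3 hQ.tf htf (isTF_hk hQ) (θ.trans eL).symm small))
    intro i
    obtain ⟨C, hC⟩ := hnear i
    refine ⟨hi k L Q i 0 + C, fun m => ?_⟩
    induction m with
    | zero => simp [B]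
    | succ m ihm =>
      have hstep : hi k L Q i (m + 1) = hi k L (tmod Q L) i m :=
        hh_congr k (tIso (Iso.refl Q) (comm _ L) ≪≫ (AmpleLib.assoc Q L _).symm) i
      rw [hstep]
      refine (hC m).1.trans ((Nat.add_le_add ihm (Nat.mul_le_mul_right _ (Nat.le_add_left C (hi k L Q i 0)))).trans ?_)
      rw [← Nat.mul_add]
      exact Nat.mul_le_mul_left _ (B_add_le n m)

variable [IsIntegral X]

/-- Coherent modules with the same generic stalk have nearly the same cohomology of twists. -/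
theorem near_of_genericStalk (hn : topologicalKrullDim X = n) {F G : X.Modules} (hF : Coh.IsCoh F) (hG : Coh.IsCoh G)
    (θ : F.presheaf.stalk (genericPoint X) ≃ₗ[X.presheaf.stalk (genericPoint X)]
      G.presheaf.stalk (genericPoint X)) :
    Near k L n F G := by
  haveI := EulerIneqLib.isNoetherian_proper (X := X) k
  set η := genericPoint X with hη
  have hs : ∀ (M : X.Modules), ∀ y ∈ CohB1.support M, η ⤳ y := fun M y _ => genericPoint_specializes y
  have hdim : topologicalKrullDim X < ((n + 1 : ℕ) : WithBot ℕ∞) := by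
    rw [hn]; exact_mod_cast Nat.lt_succ_self n
  have small : ∀ N : X.Modules, Coh.IsCoh N → (∀ y ∈ CohB1.support N, η ⤳ y) → η ∉ CohB1.support N →
      BoundLT k L N n := fun N hN _ hξ => boundLT k hL n N hN (HilbLib.dim_lt_of_notMem (isClosed_support hN)
        (fun y _ => specializes_iff_mem_closure.1 (genericPoint_specializes y)) hξ
        (lt_of_le_of_lt Topology.IsInducing.subtypeVal.topologicalKrullDim_le hdim))
  obtain ⟨S, hS, a1, a2, a3, atf, -, as1, an1, ⟨eA⟩, ⟨θA⟩⟩ := exists_tfQuot (ξ := η) hF (hs F)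
  obtain ⟨T, hT, b1, b2, b3, btf, -, bs1, bn1, ⟨eB⟩, ⟨θB⟩⟩ := exists_tfQuot (ξ := η) hG (hs G)
  have hfield : IsField (X.presheaf.stalk η) := Field.toIsField X.functionField
  have hk : ∀ a ∈ IsLocalRing.maximalIdeal (X.presheaf.stalk η), ∀ z : S.X₃.presheaf.stalk η, a • z = 0 := by
    intro a ha z
    rw [IsLocalRing.isField_iff_maximalIdeal_eq.1 hfield, Ideal.mem_bot] at ha
    rw [ha, zero_smul]
  refine ((near_iso k L n eA.symm).trans k (near_of_small_left k hL hS a1 a2 a3 (small _ a1 as1 an1))).trans k ?_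
  refine (near_of_common k hL a3 b3 (hs _) (hs _) atf btf hk ((θA.trans θ).trans θB.symm) small).trans k ?_
  exact (Near.symm k (near_of_small_left k hL hT b1 b2 b3 (small _ b1 bs1 bn1))).trans k (near_iso k L n eB)

end Groth.Agent.HiGrowth
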