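import Groth.Agent.VolLib.HiGrowth
import Groth.Prelude.Def_W4c5asymptcohfnACF

/-!
# The upper limits of the cohomology of twists
-/

set_option autoImplicit false
set_option backward.isDefEq.respectTransparency false
set_option linter.style.haveILetI false

universe u

open CategoryTheory CategoryTheory.Limits AlgebraicGeometry Filter
open Groth.Agent.DCohLib Groth.Agent.AmpleLib
open scoped Topology

noncomputable section

namespace Groth.Agent.HiGrowth

/-- Upper limits only depend on the sequence up to a null sequence. -/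
theorem limsup_congr_null {u v : ℕ → ℝ} (h : Tendsto (fun m => u m - v m) atTop (𝓝 0))
    (hu : IsBoundedUnder (· ≤ ·) atTop u) (hu' : IsBoundedUnder (· ≥ ·) atTop u)
    (hv : IsBoundedUnder (· ≤ ·) atTop v) (hv' : IsBoundedUnder (· ≥ ·) atTop v) :
    limsup u atTop = limsup v atTop := by
  suffices key : ∀ {u v : ℕ → ℝ}, Tendsto (fun m => u m - v m) atTop (𝓝 0) →
      IsBoundedUnder (· ≥ ·) atTop u → IsBoundedUnder (· ≤ ·) atTop v →
      limsup u atTop ≤ limsup v atTop from
    le_antisymm (key h hu' hv) (key (by simpa using h.neg) hv' hu)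
  intro u v h hu' hv
  refine le_of_forall_gt_imp_ge_of_dense fun c hc => ?_
  set L := limsup v atTop with hL
  have h1 := eventually_lt_of_limsup_lt (show L < (L + c) / 2 by linarith) hv
  have h2 : ∀ᶠ m in atTop, u m - v m < (c - L) / 2 := h.eventually (gt_mem_nhds (by linarith))
  exact limsup_le_of_le hu'.isCoboundedUnder_le ((h1.and h2).mono fun m hm => by linarith [hm.1, hm.2])

theorem isBoundedUnder_ge_of_nonneg {u : ℕ → ℝ} (h : ∀ m, 0 ≤ u m) : IsBoundedUnder (· ≥ ·) atTop u :=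
  isBoundedUnder_of ⟨0, h⟩

theorem tendsto_B (n : ℕ) : Tendsto (fun m : ℕ => (B n m : ℝ) / (m : ℝ) ^ n) atTop (𝓝 0) := by
  cases n with
  | zero => simp [B]
  | succ n =>
    refine squeeze_zero' (Eventually.of_forall fun m => by positivity) ?_
      (tendsto_const_div_atTop_nhds_zero_nat ((2 : ℝ) ^ n))
    refine eventually_atTop.2 ⟨1, fun m hm => ?_⟩
    have hm1 : (1 : ℝ) ≤ m := by exact_mod_cast hm
    show (((m + 1) ^ n : ℕ) : ℝ) / _ ≤ _
    push_cast
    rw [div_le_div_iff₀ (by positivity) (by positivity), pow_succ, ← mul_assoc, ← mul_pow]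
    exact mul_le_mul_of_nonneg_right (pow_le_pow_left₀ (by positivity) (by linarith) n) (by positivity)

variable (k : Type u) [Field k] {X : Scheme.{u}} [X.Over (Spec (CommRingCat.of k))]

theorem cohSeq_eq (n i : ℕ) (F L : X.Modules) :
    W4c5asymptcohfn.cohSeq k X n i F L = fun m : ℕ => (hi k L F i m : ℝ) * n.factorial / (m : ℝ) ^ n := rfl

theorem cohSeq_nonneg (n i : ℕ) (F L : X.Modules) (m : ℕ) : 0 ≤ W4c5asymptcohfn.cohSeq k X n i F L m := by
  rw [cohSeq_eq]; positivity

theorem hhat_eq (n i : ℕ) (L : X.Modules) :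
    W4c5asymptcohfn.hhat k X n i L = W4c5asymptcohfn.hhatF k X n i (Coh.structureModule X) L := by
  unfold W4c5asymptcohfn.hhat W4c5asymptcohfn.hhatF
  rw [cohSeq_eq]
  congr 1
  funext m
  rw [show hi k L (Coh.structureModule X) i m = _ from hh_congr k (unitL (CohB1.tensorPow L m)) i]

variable [IsProper (X ↘ Spec (CommRingCat.of k))]

theorem isBoundedUnder_cohSeq {n : ℕ} (hn : topologicalKrullDim X = n) {L : X.Modules} (hL : PicF.IsInvertible L)
    {F : X.Modules} (hF : Coh.IsCoh F) (i : ℕ) :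
    IsBoundedUnder (· ≤ ·) atTop (W4c5asymptcohfn.cohSeq k X n i F L) := by
  obtain ⟨C, hC⟩ := boundLT k hL (n + 1) F hF (lt_of_le_of_lt
    Topology.IsInducing.subtypeVal.topologicalKrullDim_le (by rw [hn]; exact_mod_cast Nat.lt_succ_self n)) i
  refine isBoundedUnder_of_eventually_le (a := (C : ℝ) * 2 ^ n * n.factorial) (eventually_atTop.2 ⟨1, fun m hm => ?_⟩)
  rw [cohSeq_eq]
  have hm1 : (1 : ℝ) ≤ m := by exact_mod_cast hm
  have h1 : (hi k L F i m : ℝ) ≤ C * (2 * (m : ℝ)) ^ n := by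
    refine le_trans (Nat.cast_le.2 (hC m)) ?_
    show ((C * (m + 1) ^ n : ℕ) : ℝ) ≤ _
    push_cast
    exact mul_le_mul_of_nonneg_left (pow_le_pow_left₀ (by positivity) (by linarith) n) (Nat.cast_nonneg _)
  show _ / _ ≤ _
  rw [div_le_iff₀ (by positivity)]
  calc (hi k L F i m : ℝ) * n.factorial ≤ C * (2 * (m : ℝ)) ^ n * n.factorial :=
        mul_le_mul_of_nonneg_right h1 (Nat.cast_nonneg _)
    _ = _ := by ring

omit [IsProper (X ↘ Spec (CommRingCat.of k))] in
theorem tendsto_sub_of_near {n : ℕ} {L F G : X.Modules} (h : Near k L n F G) (i : ℕ) :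
    Tendsto (fun m => W4c5asymptcohfn.cohSeq k X n i F L m - W4c5asymptcohfn.cohSeq k X n i G L m) atTop (𝓝 0) := by
  obtain ⟨C, hC⟩ := h i
  have ht : Tendsto (fun m : ℕ => (C : ℝ) * n.factorial * ((B n m : ℝ) / (m : ℝ) ^ n)) atTop (𝓝 0) := by
    simpa using (tendsto_B n).const_mul ((C : ℝ) * n.factorial)
  refine squeeze_zero_norm (fun m => ?_) ht
  rw [cohSeq_eq, cohSeq_eq, Real.norm_eq_abs]
  have h1 : (hi k L F i m : ℝ) ≤ hi k L G i m + C * B n m := by exact_mod_cast (hC m).1
  have h2 : (hi k L G i m : ℝ) ≤ hi k L F i m + C * B n m := by exact_mod_cast (hC m).2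
  show |(hi k L F i m : ℝ) * n.factorial / _ - _| ≤ _
  rw [← sub_div, ← sub_mul, abs_div, abs_mul, Nat.abs_cast, abs_of_nonneg (by positivity : (0 : ℝ) ≤ (m : ℝ) ^ n),
    ← mul_div_assoc, mul_right_comm]
  gcongr
  exact abs_le.2 ⟨by linarith, by linarith⟩

/-- The upper limit only depends on the module up to small pieces. -/
theorem hhatF_eq_of_near {n : ℕ} (hn : topologicalKrullDim X = n) {L F G : X.Modules} (hL : PicF.IsInvertible L)
    (hF : Coh.IsCoh F) (hG : Coh.IsCoh G) (h : Near k L n F G) (i : ℕ) :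
    W4c5asymptcohfn.hhatF k X n i F L = W4c5asymptcohfn.hhatF k X n i G L :=
  limsup_congr_null (tendsto_sub_of_near k h i) (isBoundedUnder_cohSeq k hn hL hF i)
    (isBoundedUnder_ge_of_nonneg (cohSeq_nonneg k n i F L)) (isBoundedUnder_cohSeq k hn hL hG i)
    (isBoundedUnder_ge_of_nonneg (cohSeq_nonneg k n i G L))

/-- The generic stalk of an invertible module is the function field. -/
theorem nonempty_stalk_invertible {M : X.Modules} (hM : PicF.IsInvertible M) (x : X) :
    Nonempty (M.presheaf.stalk x ≃ₗ[X.presheaf.stalk x] (Coh.structureModule X).presheaf.stalk x) := by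
  obtain ⟨e⟩ := HilbLib.nonempty_stalk_equiv hM (Coh.structureModule X) x
  exact ⟨(LinearEquiv.ofBijective _ (HilbLib.stalkLin_bijective_of_iso (unitL M) x)).symm.trans e⟩

/-- Homogeneity. -/
theorem hhat_pow [IsIntegral X] {n : ℕ} (hn : topologicalKrullDim X = n) {L : X.Modules} (hL : PicF.IsInvertible L)
    {a : ℕ} (ha : 1 ≤ a) (i : ℕ) :
    W4c5asymptcohfn.hhat k X n i (CohB1.tensorPow L a) = (a : ℝ) ^ n * W4c5asymptcohfn.hhat k X n i L := by
  haveI := EulerIneqLib.isNoetherian_proper (X := X) k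
  have hLa := isInvertible_tensorPow hL a
  have hO := CurveLib.isCoh_of_isInvertible (ParaFLib.isInvertible_structureModule (X := X))
  rw [hhat_eq, hhat_eq]
  set u := W4c5asymptcohfn.cohSeq k X n i (Coh.structureModule X) L with hu
  set v := W4c5asymptcohfn.cohSeq k X n i (Coh.structureModule X) (CohB1.tensorPow L a) with hv
  let V : ℕ → ℕ → ℝ := fun b => W4c5asymptcohfn.cohSeq k X n i (CohB1.tensorPow L b) (CohB1.tensorPow L a)
  have hbd := isBoundedUnder_cohSeq k hn hLa hO i
  have hnear : ∀ b, Tendsto (fun j => V b j - v j) atTop (𝓝 0) := fun b => by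
    obtain ⟨θ⟩ := nonempty_stalk_invertible (isInvertible_tensorPow hL b) (genericPoint X)
    exact tendsto_sub_of_near k (near_of_genericStalk k hLa hn
      (CurveLib.isCoh_of_isInvertible (isInvertible_tensorPow hL b)) hO θ) i
  have hdiv : Tendsto (fun m : ℕ => m / a) atTop atTop :=
    Nat.tendsto_div_const_atTop (by omega)
  have hrel : ∀ m : ℕ, a ≤ m → u m = V (m % a) (m / a) * ((((m / a : ℕ) : ℝ)) ^ n / (m : ℝ) ^ n) := by
    intro m hm
    have hq : (((m / a : ℕ) : ℝ)) ^ n ≠ 0 :=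
      pow_ne_zero _ (by exact_mod_cast (Nat.div_pos hm ha).ne')
    simp only [hu, V, cohSeq_eq]
    have e : hi k L (Coh.structureModule X) i m = hi k (CohB1.tensorPow L a) (CohB1.tensorPow L (m % a)) i (m / a) := by
      refine (hh_congr k (unitL _) i).trans (hh_congr k ?_ i).symm
      exact tIso (Iso.refl _) (powMul L a (m / a)) ≪≫ (powAdd L (m % a) (a * (m / a))).symm ≪≫
        eqToIso (by rw [Nat.mod_add_div])
    rw [e, div_mul_div_comm, mul_comm ((((m / a : ℕ) : ℝ)) ^ n) ((m : ℝ) ^ n)]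
    rw [mul_div_mul_right _ _ hq]
  have hratio : Tendsto (fun m : ℕ => ((((m / a : ℕ) : ℝ)) ^ n / (m : ℝ) ^ n)) atTop (𝓝 ((1 / (a : ℝ)) ^ n)) := by
    simp only [← div_pow]
    refine Tendsto.pow ?_ n
    have haR : (0 : ℝ) < a := by exact_mod_cast ha
    refine tendsto_of_tendsto_of_tendsto_of_le_of_le'
      (g := fun m : ℕ => 1 / (a : ℝ) - 1 / (m : ℝ)) (h := fun _ => 1 / (a : ℝ))
      (by simpa using (tendsto_const_div_atTop_nhds_zero_nat (1 : ℝ)).const_sub (1 / (a : ℝ)))
      tendsto_const_nhds (eventually_atTop.2 ⟨1, fun m hm => ?_⟩) (eventually_atTop.2 ⟨1, fun m hm => ?_⟩)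
    · have hmR : (0 : ℝ) < m := by exact_mod_cast hm
      rw [div_sub_div _ _ haR.ne' hmR.ne', div_le_div_iff₀ (by positivity) hmR]
      have h1 : (m : ℝ) < a * ((m / a : ℕ) : ℝ) + a := by
        exact_mod_cast (by have := Nat.div_add_mod m a; have := Nat.mod_lt m ha; omega : m < a * (m / a) + a)
      nlinarith
    · have hmR : (0 : ℝ) < m := by exact_mod_cast hm
      rw [div_le_div_iff₀ hmR haR, one_mul]
      exact_mod_cast Nat.div_mul_le_self m a
  have hd : Tendsto (fun m => u m - (1 / (a : ℝ)) ^ n * v (m / a)) atTop (𝓝 0) := by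
    have h1 : Tendsto (fun m : ℕ => V (m % a) (m / a) - v (m / a)) atTop (𝓝 0) := by
      refine squeeze_zero_norm (a := fun m => ∑ b ∈ Finset.range a, ‖V b (m / a) - v (m / a)‖) (fun m => ?_) ?_
      · exact Finset.single_le_sum (f := fun b => ‖V b (m / a) - v (m / a)‖) (fun _ _ => norm_nonneg _)
          (Finset.mem_range.2 (Nat.mod_lt _ ha))
      · simpa using tendsto_finset_sum (Finset.range a) fun b _ => ((hnear b).comp hdiv).norm
    obtain ⟨M, hM⟩ := hbd
    have h2 : Tendsto (fun m : ℕ => v (m / a) * (((((m / a : ℕ) : ℝ)) ^ n / (m : ℝ) ^ n) - (1 / (a : ℝ)) ^ n))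
        atTop (𝓝 0) := by
      refine bdd_le_mul_tendsto_zero' M ?_ (by simpa using hratio.sub_const ((1 / (a : ℝ)) ^ n))
      exact (hdiv.eventually (eventually_map.1 hM)).mono fun m hm =>
        (abs_of_nonneg (cohSeq_nonneg k n i _ _ _)).trans_le hm
    have h3 := (h1.mul hratio).add h2
    rw [zero_mul, add_zero] at h3
    refine h3.congr' (eventually_atTop.2 ⟨a, fun m hm => ?_⟩)
    show _ = u m - _
    rw [hrel m hm]
    ring
  have hnn : ∀ m, 0 ≤ (1 / (a : ℝ)) ^ n * v (m / a) := fun m =>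
    mul_nonneg (by positivity) (cohSeq_nonneg k n i _ _ _)
  have hbd' : IsBoundedUnder (· ≤ ·) atTop (fun m => (1 / (a : ℝ)) ^ n * v (m / a)) := by
    obtain ⟨M, hM⟩ := hbd
    exact isBoundedUnder_of_eventually_le (a := (1 / (a : ℝ)) ^ n * M) ((hdiv.eventually (eventually_map.1 hM)).mono
      fun m hm => mul_le_mul_of_nonneg_left hm (by positivity))
  have h := limsup_congr_null hd (isBoundedUnder_cohSeq k hn hL hO i)
    (isBoundedUnder_ge_of_nonneg (cohSeq_nonneg k n i _ L)) hbd' (isBoundedUnder_ge_of_nonneg hnn)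
  have hmono : Monotone (fun x : ℝ => (1 / (a : ℝ)) ^ n * x) := fun x y hxy =>
    mul_le_mul_of_nonneg_left hxy (by positivity)
  have h4 : limsup (fun m => (1 / (a : ℝ)) ^ n * v (m / a)) atTop =
      (1 / (a : ℝ)) ^ n * limsup v atTop := by
    rw [show (fun m => (1 / (a : ℝ)) ^ n * v (m / a)) = (fun j => (1 / (a : ℝ)) ^ n * v j) ∘ (fun m => m / a) from rfl,
      limsup_comp, Filter.map_div_atTop_eq_nat a ha]
    exact (Monotone.map_limsup_of_continuousAt hmono v (continuous_const.mul continuous_id).continuousAt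
      hbd (isBoundedUnder_ge_of_nonneg (cohSeq_nonneg k n i _ _)).isCoboundedUnder_le).symm
  unfold W4c5asymptcohfn.hhatF
  rw [h, h4, ← mul_assoc, ← mul_pow, mul_one_div_cancel (by exact_mod_cast (by omega : a ≠ 0)), one_pow, one_mul]

end Groth.Agent.HiGrowth
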