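import Groth.Agent.VolLib.MultiGrowth
import Groth.Agent.VolLib.HiLim

/-!
# A Lipschitz estimate for the upper limits
-/

set_option autoImplicit false
set_option backward.isDefEq.respectTransparency false
set_option linter.style.haveILetI false

universe u

open CategoryTheory CategoryTheory.Limits AlgebraicGeometry Filter
open Groth.Agent.DCohLib Groth.Agent.AmpleLib
open scoped Topology

noncomputable section

namespace Groth.Agent.HiGrowth

variable (k : Type u) [Field k] {X : Scheme.{u}} [X.Over (Spec (CommRingCat.of k))]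

/-- `dim H^i` of a class. -/
def hcl (i : ℕ) (c : IntLib.MCls X) : ℕ :=
  Quotient.liftOn c (fun M : X.Modules => Module.finrank k (Coh.HH X M i)) fun _ _ ⟨e⟩ => hh_congr k e i

theorem hcl_mk (i : ℕ) (M : X.Modules) : hcl k i (IntLib.mk M) = Module.finrank k (Coh.HH X M i) := rfl

theorem hiW_eq {J : Type} (E : J → X.Modules) (i : ℕ) (w : List J) :
    hiW k E (Coh.structureModule X) i w = hcl k i ((w.map fun j => IntLib.mk (E j)).prod) := by
  rw [← mk_pw, hcl_mk]
  exact hh_congr k (unitL (pw E w)) i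

theorem cohSeq_unit (n i : ℕ) (L : X.Modules) :
    W4c5asymptcohfn.cohSeq k X n i (Coh.structureModule X) L =
      fun m : ℕ => (hcl k i (IntLib.mk L ^ m) : ℝ) * n.factorial / (m : ℝ) ^ n := by
  funext m
  rw [cohSeq_eq]
  simp only [← IntLib.mk_tensorPow, hcl_mk]
  rw [show hi k L (Coh.structureModule X) i m = _ from hh_congr k (unitL (CohB1.tensorPow L m)) i]

/-- The asymptotic cohomological functions only depend on the class. -/
theorem hhat_congr (n i : ℕ) {L L' : X.Modules} (h : IntLib.mk L = IntLib.mk L') :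
    W4c5asymptcohfn.hhat k X n i L = W4c5asymptcohfn.hhat k X n i L' := by
  rw [hhat_eq, hhat_eq]
  unfold W4c5asymptcohfn.hhatF
  rw [cohSeq_unit, cohSeq_unit, h]

variable {r : ℕ} (L M : Fin r → X.Modules)

omit k in
/-- The units of the invertible classes. -/
def unitCls (hM : ∀ j, ClSub.IsInverseOf (L j) (M j)) (j : Fin r) : (IntLib.MCls X)ˣ :=
  Units.mkOfMulEqOne (IntLib.mk (L j)) (IntLib.mk (M j))
    ((IntLib.mk_tensor _ _).symm.trans (Nonempty.elim (hM j) IntLib.mk_congr))

omit k in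
/-- The class of an integral combination. -/
def zcls (hM : ∀ j, ClSub.IsInverseOf (L j) (M j)) (a : Fin r → ℤ) : (IntLib.MCls X)ˣ :=
  ∏ j, unitCls L M hM j ^ a j

omit k in
/-- The word of an integral combination. -/
def zword (a : Fin r → ℤ) : List (Fin r × Bool) :=
  (List.finRange r).flatMap fun j => List.replicate (a j).natAbs (j, decide (0 ≤ a j))

omit k in
theorem mk_zword (hM : ∀ j, ClSub.IsInverseOf (L j) (M j)) (a : Fin r → ℤ) :
    ((zword a).map fun p => IntLib.mk (if p.2 then L p.1 else M p.1)).prod = (zcls L M hM a : IntLib.MCls X) := by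
  rw [zword, List.map_flatMap, List.flatMap_def, List.prod_flatten, List.map_map, zcls, Units.coe_prod, Fin.prod_univ_def]
  refine congrArg List.prod (List.map_congr_left fun j _ => ?_)
  rw [Function.comp_apply, List.map_replicate, List.prod_replicate]
  cases hj : a j with
  | ofNat m => simp [unitCls]
  | negSucc m => simp [unitCls, ← inv_pow]; rfl

omit k in
theorem mk_ztwist (hM : ∀ j, ClSub.IsInverseOf (L j) (M j)) (a : Fin r → ℤ) :
    IntLib.mk (W4c5asymptcohfn.ztwist X L M a) = (zcls L M hM a : IntLib.MCls X) := by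
  have hmt : ∀ (F : Fin r → X.Modules) (e : Fin r → ℕ),
      IntLib.mk (FGA.multiTwist F e) = ∏ j, IntLib.mk (F j) ^ e j := fun F e => by
    rw [FGA.multiTwist, IntLib.mk_tensorList, List.map_map, Fin.prod_univ_def]
    exact congrArg List.prod (List.map_congr_left fun j _ => IntLib.mk_tensorPow (F j) (e j))
  rw [W4c5asymptcohfn.ztwist, IntLib.mk_tensor, hmt, hmt, ← Finset.prod_mul_distrib, zcls, Units.coe_prod]
  refine Finset.prod_congr rfl fun j _ => ?_
  cases hj : a j with
  | ofNat m => simp [unitCls]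
  | negSucc m => simp [unitCls, ← inv_pow]; rfl

omit k in
theorem zcls_add (hM : ∀ j, ClSub.IsInverseOf (L j) (M j)) (a b : Fin r → ℤ) :
    zcls L M hM (a + b) = zcls L M hM a * zcls L M hM b := by
  simp [zcls, zpow_add, Finset.prod_mul_distrib]

omit k in
theorem zcls_smul (hM : ∀ j, ClSub.IsInverseOf (L j) (M j)) (a : Fin r → ℤ) (m : ℕ) :
    zcls L M hM ((m : ℤ) • a) = zcls L M hM a ^ m := by
  simp only [zcls, Pi.smul_apply, smul_eq_mul, mul_comm (m : ℤ), zpow_mul, zpow_natCast, Finset.prod_pow]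

omit k in
theorem length_zword (a : Fin r → ℤ) : ((zword a).length : ℝ) ≤ r * ‖(fun j => ((a j : ℤ) : ℝ))‖ := by
  rw [zword, List.length_flatMap]
  simp only [List.length_replicate]
  rw [← Fin.sum_univ_def, Nat.cast_sum]
  refine (Finset.sum_le_card_nsmul _ _ ‖(fun j => ((a j : ℤ) : ℝ))‖ fun j _ => ?_).trans (by simp)
  refine le_trans ?_ (norm_le_pi_norm (fun j => ((a j : ℤ) : ℝ)) j)
  rw [Real.norm_eq_abs, ← Int.cast_abs, Int.abs_eq_natAbs, Int.cast_natCast]

variable [IsProper (X ↘ Spec (CommRingCat.of k))] [IsIntegral X]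

/-- **The Lipschitz estimate.** -/
theorem hhat_lipschitz {n : ℕ} (hn : topologicalKrullDim X = n) (hL : ∀ j, PicF.IsInvertible (L j))
    (hM : ∀ j, ClSub.IsInverseOf (L j) (M j)) (i : ℕ) :
    ∃ C : ℝ, 0 ≤ C ∧ ∀ a b : Fin r → ℤ,
      |W4c5asymptcohfn.hhat k X n i (W4c5asymptcohfn.ztwist X L M a) -
          W4c5asymptcohfn.hhat k X n i (W4c5asymptcohfn.ztwist X L M b)| ≤
        C * (Finset.Icc 1 n).sum (fun q =>
          (max ‖(fun j => ((a j : ℤ) : ℝ))‖ ‖(fun j => ((b j : ℤ) : ℝ))‖) ^ (n - q) *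
            ‖(fun j => ((a j - b j : ℤ) : ℝ))‖ ^ q) := by
  haveI := EulerIneqLib.isNoetherian_proper (X := X) k
  have hMi : ∀ j, PicF.IsInvertible (M j) := fun j => by
    obtain ⟨N, hN, ⟨e⟩⟩ := AmpleEmb.exists_isInverseOf (hL j)
    obtain ⟨e'⟩ := hM j
    exact ParaFLib.isInvertible_of_iso ((unitL (M j)).symm ≪≫ tIso (e.symm ≪≫ comm _ _) (Iso.refl _) ≪≫
      AmpleLib.assoc N (L j) (M j) ≪≫ tIso (Iso.refl N) e' ≪≫ unitR N).symm hN
  have hEi : ∀ p : Fin r × Bool, PicF.IsInvertible (if p.2 then L p.1 else M p.1) := fun p => by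
    split
    exacts [hL _, hMi _]
  obtain ⟨C, hC⟩ := lipschitz k (E := fun p : Fin r × Bool => if p.2 then L p.1 else M p.1) hEi hn i
  have hD0 : (0 : ℝ) ≤ (n.factorial : ℝ) * C * r * (3 * r + 2) ^ (n - 1) := by positivity
  refine ⟨(n.factorial : ℝ) * C * r * (3 * r + 2) ^ (n - 1), hD0, fun a b => ?_⟩
  set A := ‖(fun j => ((a j : ℤ) : ℝ))‖ with hA
  set Bn := ‖(fun j => ((b j : ℤ) : ℝ))‖ with hB
  set D := ‖(fun j => ((a j - b j : ℤ) : ℝ))‖ with hD
  set K := max A Bn with hK
  have hzi : ∀ x, PicF.IsInvertible (W4c5asymptcohfn.ztwist X L M x) := fun x => by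
    have h := isInvertible_pw (fun p : Fin r × Bool => if p.2 then L p.1 else M p.1) hEi (zword x)
    have e : IntLib.mk (pw (fun p : Fin r × Bool => if p.2 then L p.1 else M p.1) (zword x)) =
        IntLib.mk (W4c5asymptcohfn.ztwist X L M x) := by rw [mk_pw, mk_zword L M hM, mk_ztwist L M hM]
    exact ParaFLib.isInvertible_of_iso (IntLib.mk_eq_mk.1 e).some h
  rcases eq_or_ne a b with rfl | hab
  · rw [sub_self, abs_zero]
    exact mul_nonneg hD0 (Finset.sum_nonneg fun q _ => by positivity)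
  have hD1 : 1 ≤ D := by
    obtain ⟨j, hj⟩ := Function.ne_iff.1 hab
    refine le_trans ?_ (norm_le_pi_norm (fun j => ((a j - b j : ℤ) : ℝ)) j)
    rw [Real.norm_eq_abs, ← Int.cast_abs]
    exact_mod_cast Int.one_le_abs (sub_ne_zero.2 hj)
  have hDK : D ≤ A + Bn := by
    refine le_trans (le_of_eq ?_) (norm_sub_le (fun j => ((a j : ℤ) : ℝ)) (fun j => ((b j : ℤ) : ℝ)))
    rw [hD]
    congr 1
    funext j
    push_cast
    rfl
  have hAK : A ≤ K := le_max_left _ _
  have hBK : Bn ≤ K := le_max_right _ _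
  have hstep : ∀ m : ℕ, 1 ≤ m →
      |((hcl k i (IntLib.mk (W4c5asymptcohfn.ztwist X L M a) ^ m) : ℕ) : ℝ) -
        (hcl k i (IntLib.mk (W4c5asymptcohfn.ztwist X L M b) ^ m) : ℕ)| * n.factorial / (m : ℝ) ^ n ≤
      (if n = 0 then 0 else (n.factorial : ℝ) * C * r * (3 * r + 2) ^ (n - 1) * (K ^ (n - 1) * D)) := by
    intro m hm
    set v := zword ((m : ℤ) • (a - b)) with hv
    set u := zword ((m : ℤ) • b) with hu
    obtain ⟨h1, h2⟩ := hC v u
    have eu : hiW k (fun p : Fin r × Bool => if p.2 then L p.1 else M p.1) (Coh.structureModule X) i u =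
        hcl k i (IntLib.mk (W4c5asymptcohfn.ztwist X L M b) ^ m) := by
      rw [hiW_eq, hu, mk_zword L M hM, mk_ztwist L M hM, zcls_smul, Units.val_pow_eq_pow_val]
    have ev : hiW k (fun p : Fin r × Bool => if p.2 then L p.1 else M p.1) (Coh.structureModule X) i (v ++ u) =
        hcl k i (IntLib.mk (W4c5asymptcohfn.ztwist X L M a) ^ m) := by
      rw [hiW_eq, List.map_append, List.prod_append, hu, hv, mk_zword L M hM, mk_zword L M hM,
        mk_ztwist L M hM, ← Units.val_mul, ← zcls_add, ← smul_add, sub_add_cancel, zcls_smul,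
        Units.val_pow_eq_pow_val]
    rw [ev, eu] at h1 h2
    have habs : |((hcl k i (IntLib.mk (W4c5asymptcohfn.ztwist X L M a) ^ m) : ℕ) : ℝ) -
        (hcl k i (IntLib.mk (W4c5asymptcohfn.ztwist X L M b) ^ m) : ℕ)| ≤
        (C : ℝ) * v.length * B n (v.length + u.length) :=
      abs_sub_le_iff.2 ⟨by linarith [(by exact_mod_cast h1 : ((hcl k i (IntLib.mk (W4c5asymptcohfn.ztwist X L M a) ^ m) : ℕ) : ℝ) ≤
          (hcl k i (IntLib.mk (W4c5asymptcohfn.ztwist X L M b) ^ m) : ℕ) + (C : ℝ) * v.length * B n (v.length + u.length))],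
        by linarith [(by exact_mod_cast h2 : ((hcl k i (IntLib.mk (W4c5asymptcohfn.ztwist X L M b) ^ m) : ℕ) : ℝ) ≤
          (hcl k i (IntLib.mk (W4c5asymptcohfn.ztwist X L M a) ^ m) : ℕ) + (C : ℝ) * v.length * B n (v.length + u.length))]⟩
    have hmR : (1 : ℝ) ≤ m := by exact_mod_cast hm
    cases n with
    | zero =>
      rw [if_pos rfl]
      simp only [B, Nat.cast_zero, mul_zero] at habs
      rw [le_antisymm habs (abs_nonneg _)]
      simp
    | succ n =>
      rw [if_neg (Nat.succ_ne_zero n), Nat.add_sub_cancel]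
      have hnorm : ∀ x : Fin r → ℤ, ‖(fun j => ((((m : ℤ) • x) j : ℤ) : ℝ))‖ =
          m * ‖(fun j => ((x j : ℤ) : ℝ))‖ := fun x => by
        rw [show (fun j => ((((m : ℤ) • x) j : ℤ) : ℝ)) = (m : ℝ) • (fun j => ((x j : ℤ) : ℝ)) from
          funext fun j => by simp, norm_smul, Real.norm_eq_abs, Nat.abs_cast]
      have hlv : (v.length : ℝ) ≤ r * (m * D) := by
        refine (length_zword _).trans_eq ?_
        rw [hnorm]
        rfl
      have hlu : (u.length : ℝ) ≤ r * (m * Bn) := by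
        refine (length_zword _).trans_eq ?_
        rw [hnorm]
      have hB : (B (n + 1) (v.length + u.length) : ℝ) ≤ ((3 * r + 2) * K * m) ^ n := by
        show (((v.length + u.length + 1) ^ n : ℕ) : ℝ) ≤ _
        push_cast
        refine pow_le_pow_left₀ (by positivity) ?_ n
        have hr : (0 : ℝ) ≤ r := Nat.cast_nonneg r
        have e1 : (r : ℝ) * (m * D) ≤ r * (m * (2 * K)) := by gcongr; linarith
        have e2 : (r : ℝ) * (m * Bn) ≤ r * (m * K) := by gcongr
        have hK2 : 1 / 2 ≤ K := by linarith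
        have e3 : (1 : ℝ) ≤ 2 * K * m := by nlinarith
        nlinarith
      rw [div_le_iff₀ (by positivity)]
      calc _ ≤ (C : ℝ) * (r * (m * D)) * ((3 * r + 2) * K * m) ^ n * (n + 1).factorial :=
            mul_le_mul_of_nonneg_right (habs.trans (by gcongr)) (Nat.cast_nonneg _)
        _ = _ := by rw [mul_pow, mul_pow, pow_succ (m : ℝ)]; ring
  set c := if n = 0 then 0 else (n.factorial : ℝ) * C * r * (3 * r + 2) ^ (n - 1) * (K ^ (n - 1) * D) with hc
  have hcs : c ≤ (n.factorial : ℝ) * C * r * (3 * r + 2) ^ (n - 1) *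
      (Finset.Icc 1 n).sum (fun q => K ^ (n - q) * D ^ q) := by
    rw [hc]
    split_ifs with h0
    · exact mul_nonneg hD0 (Finset.sum_nonneg fun q _ => by positivity)
    · refine mul_le_mul_of_nonneg_left ?_ hD0
      have h := Finset.single_le_sum (f := fun q => K ^ (n - q) * D ^ q)
        (fun q _ => by positivity) (Finset.mem_Icc.2 ⟨le_rfl, by omega⟩ : (1 : ℕ) ∈ Finset.Icc 1 n)
      simpa using h
  refine le_trans ?_ hcs
  rw [hhat_eq, hhat_eq]
  unfold W4c5asymptcohfn.hhatF
  have hO := CurveLib.isCoh_of_isInvertible (ParaFLib.isInvertible_structureModule (X := X))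
  have hsub : ∀ x y : Fin r → ℤ, (∀ m : ℕ, 1 ≤ m →
      W4c5asymptcohfn.cohSeq k X n i (Coh.structureModule X) (W4c5asymptcohfn.ztwist X L M x) m ≤
        W4c5asymptcohfn.cohSeq k X n i (Coh.structureModule X) (W4c5asymptcohfn.ztwist X L M y) m + c) →
      limsup (W4c5asymptcohfn.cohSeq k X n i (Coh.structureModule X) (W4c5asymptcohfn.ztwist X L M x)) atTop ≤
        limsup (W4c5asymptcohfn.cohSeq k X n i (Coh.structureModule X) (W4c5asymptcohfn.ztwist X L M y)) atTop + c := by
    intro x y h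
    refine le_of_forall_gt_imp_ge_of_dense fun t ht => ?_
    have hev := eventually_lt_of_limsup_lt (lt_sub_iff_add_lt.2 ht) (isBoundedUnder_cohSeq k hn (hzi y) hO i)
    exact limsup_le_of_le (isBoundedUnder_ge_of_nonneg (cohSeq_nonneg k n i _ _)).isCoboundedUnder_le
      ((hev.and (eventually_ge_atTop 1)).mono fun m hm => by linarith [h m hm.2, hm.1])
  have hpt : ∀ m : ℕ, 1 ≤ m →
      |W4c5asymptcohfn.cohSeq k X n i (Coh.structureModule X) (W4c5asymptcohfn.ztwist X L M a) m -
        W4c5asymptcohfn.cohSeq k X n i (Coh.structureModule X) (W4c5asymptcohfn.ztwist X L M b) m| ≤ c := fun m hm => by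
    rw [cohSeq_unit, cohSeq_unit]
    refine le_of_eq_of_le ?_ (hstep m hm)
    rw [← sub_div, ← sub_mul, abs_div, abs_mul, Nat.abs_cast, abs_of_nonneg (by positivity : (0 : ℝ) ≤ (m : ℝ) ^ n)]
  exact abs_sub_le_iff.2 ⟨by linarith [hsub a b fun m hm => by linarith [(abs_sub_le_iff.1 (hpt m hm)).1]],
    by linarith [hsub b a fun m hm => by linarith [(abs_sub_le_iff.1 (hpt m hm)).2]]⟩

end Groth.Agent.HiGrowth
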