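import Groth.Agent.VolLib.HiSplit
import Groth.Agent.AmpleEmb.RelVanish
import Groth.Agent.DCohLib.ProjFlf
import Groth.Agent.ProperFin.PushHH
import Groth.Agent.ProperFin.Main
import Groth.Agent.RpushLib.Finite
import Groth.Agent.WeilCohLib.Geom
import Groth.Agent.AmpleLib.Pullback
import Groth.Agent.AmpleLib.Basis

/-!
# Cohomology of twists by pulled back modules
-/

set_option autoImplicit false
set_option backward.isDefEq.respectTransparency false
set_option linter.style.haveILetI false

universe u

open CategoryTheory CategoryTheory.Limits AlgebraicGeometry TopologicalSpace Opposite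
open Groth.Agent.DCohLib Groth.Agent.AmpleLib Groth.Agent.PullbackMod

noncomputable section

namespace Groth.Agent.HiGrowth

variable (k : Type u) [Field k] {X Y : Scheme.{u}} [X.Over (Spec (CommRingCat.of k))]
  [Y.Over (Spec (CommRingCat.of k))] [IsProper (X ↘ Spec (CommRingCat.of k))]
  [IsProper (Y ↘ Spec (CommRingCat.of k))] {f : Y ⟶ X}

/-- An auxiliary invertible module reduces the twists by pulled back modules to the base. -/
theorem exists_transfer (hf : f ≫ (X ↘ Spec (CommRingCat.of k)) = Y ↘ Spec (CommRingCat.of k))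
    {B : Y.Modules} (hB : CohB1.IsAmple B) :
    ∃ M : Y.Modules, PicF.IsInvertible M ∧ Coh.IsCoh ((Scheme.Modules.pushforward f).obj M) ∧
      ∀ L : X.Modules, PicF.IsInvertible L → ∀ i m,
        hi k ((Scheme.Modules.pullback f).obj L) M i m = hi k L ((Scheme.Modules.pushforward f).obj M) i m := by
  haveI := EulerIneqLib.isNoetherian_proper (X := X) k
  haveI := EulerIneqLib.isNoetherian_proper (X := Y) k
  haveI : IsProper (f ≫ (X ↘ Spec (CommRingCat.of k))) := by rw [hf]; infer_instance
  haveI : IsProper f := IsProper.of_comp f (X ↘ Spec (CommRingCat.of k))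
  haveI : HasInjectiveResolutions Y.Modules := inferInstance
  obtain ⟨N, hN⟩ := AmpleEmb.exists_isZero_rpush_tensorPow f hB.1
    (fun W hW => by
      haveI : CompactSpace (f ⁻¹ᵁ W : Y.Opens) := isCompact_iff_compactSpace.1 (f.isCompact_preimage hW.isCompact)
      exact AmpleLib.isAmple_restrict _ hB)
    (CurveLib.isCoh_of_isInvertible (ParaFLib.isInvertible_structureModule (X := Y)))
  set M := CohB1.tensorMod (Coh.structureModule Y) (CohB1.tensorPow B N) with hMdef
  have hMi : PicF.IsInvertible M :=
    isInvertible_tensor ParaFLib.isInvertible_structureModule (isInvertible_tensorPow hB.1 N)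
  have hMc := CurveLib.isCoh_of_isInvertible hMi
  haveI := hMc.1
  have hGc : Coh.IsCoh ((Scheme.Modules.pushforward f).obj M) := RpushLib.isCoh_push f hMc
  refine ⟨M, hMi, hGc, fun L hL i m => ?_⟩
  set E := CohB1.tensorPow L m with hEdef
  have hE : FlatMod.IsFinLocFree E := CurveLib.isFinLocFree_of_isInvertible (isInvertible_tensorPow hL m)
  set T := CohB1.tensorMod M ((Scheme.Modules.pullback f).obj E) with hTdef
  have hT : Coh.IsCoh T := CurveLib.isCoh_of_isInvertible
    (isInvertible_tensor hMi (AmpleLib.isInvertible_pullback f (isInvertible_tensorPow hL m)))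
  haveI := hT.1
  haveI := hMc.1
  have hz : ∀ q, 0 < q → IsZero ((Coh.Rpush f q).obj T) := fun q hq => by
    obtain ⟨e⟩ := DCohLib.nonempty_projection_flf f M hE q
    exact IsZero.of_iso ((CurveLib.tensR E).map_isZero (hN N le_rfl q hq)) e.symm
  have hacyc : ProperFin.AffAcyclic f T := fun V hV p => by
    obtain ⟨j⟩ := RpushLib.nonempty_sections (M := T) f p hV
    haveI : Subsingleton Γ((Coh.Rpush f (p + 1)).obj T, V) :=
      AddCommGrpCat.subsingleton_of_isZero
        (((Scheme.Modules.toPresheaf X).map_isZero (hz (p + 1) p.succ_pos)).obj (op V))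
    exact j.symm.toEquiv.subsingleton
  obtain ⟨e, he⟩ := ProperFin.exists_pushEquiv f hacyc i
  have htg : Coh.toGlobal (Y ↘ Spec (CommRingCat.of k)) =
      (ProperFin.gTop f).comp (Coh.toGlobal (X ↘ Spec (CommRingCat.of k))) := by
    rw [← hf]
    rfl
  let eL : Coh.HH Y T i ≃ₗ[k] Coh.HH X ((Scheme.Modules.pushforward f).obj T) i :=
    { e with
      map_smul' := fun a x => by
        show e (Coh.toGlobal (Y ↘ Spec (CommRingCat.of k)) a • x) =
          Coh.toGlobal (X ↘ Spec (CommRingCat.of k)) a • e x
        rw [htg]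
        exact he _ x }
  obtain ⟨p0⟩ := DCohLib.nonempty_projection_flf f M hE 0
  have e0 := Functor.rightDerivedZeroIsoSelf (Scheme.Modules.pushforward f)
  have ep : CohB1.tensorMod ((Scheme.Modules.pushforward f).obj M) E ≅ (Scheme.Modules.pushforward f).obj T :=
    tIso (e0.app M).symm (Iso.refl E) ≪≫ p0 ≪≫ e0.app T
  calc hi k ((Scheme.Modules.pullback f).obj L) M i m = Module.finrank k (Coh.HH Y T i) :=
        hh_congr k (tIso (Iso.refl M) (pullPow f L m).symm) i
    _ = Module.finrank k (Coh.HH X ((Scheme.Modules.pushforward f).obj T) i) := eL.finrank_eq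
    _ = hi k L ((Scheme.Modules.pushforward f).obj M) i m := (hh_congr k ep i).symm

omit k in
theorem residue_bijective [IsIntegral X] : Function.Bijective (X.residue (genericPoint X)).hom :=
  ⟨RingHom.injective (show X.functionField →+* _ from (X.residue (genericPoint X)).hom),
    X.residue_surjective _⟩

variable [IsIntegral X] [IsIntegral Y]

/-- A generically finite dominant morphism preserves the dimension, and its generic fibre is a point. -/
theorem dim_and_fibre (hf : f ≫ (X ↘ Spec (CommRingCat.of k)) = Y ↘ Spec (CommRingCat.of k))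
    {n : ℕ} (hn : topologicalKrullDim X = n) (hdom : f.base (genericPoint Y) = genericPoint X)
    (hd : f.residueDegree (genericPoint Y) ≠ 0) :
    topologicalKrullDim Y = n ∧ ∀ z : Y, f z = genericPoint X → z = genericPoint Y := by
  haveI := EulerIneqLib.isNoetherian_proper (X := X) k
  haveI := EulerIneqLib.isNoetherian_proper (X := Y) k
  have hpX : WeilCoh.pdim X (genericPoint X) = n := by
    rw [← WeilCohLib.dim_eq_pdim_genericPoint (X ↘ Spec (CommRingCat.of k)), WeilCoh.dim, WeilCoh.natDim, hn]
    rfl
  have hpY : WeilCoh.pdim Y (genericPoint Y) = n :=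
    (WeilCohLib.pdim_eq_of_residueDegree_ne_zero (X ↘ Spec (CommRingCat.of k)) f (Y ↘ Spec (CommRingCat.of k))
      hf (genericPoint Y) hd).trans (by rw [show f (genericPoint Y) = genericPoint X from hdom, hpX])
  refine ⟨DimFormulaLib.topologicalKrullDim_eq_trdeg (Y ↘ Spec (CommRingCat.of k)) n
    (by rw [(WeilCohLib.height_eq _ _).2, hpY]), fun z hz => ?_⟩
  have h1 : n ≤ WeilCoh.pdim Y z := by
    have h := (WeilCohLib.height_eq (Y ↘ Spec (CommRingCat.of k)) z).2
    rw [← FlatDim.resTrdegAt_congr hf z, FlatDim.resTrdegAt_comp, hz,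
      (WeilCohLib.height_eq (X ↘ Spec (CommRingCat.of k)) _).2, hpX] at h
    exact_mod_cast le_self_add.trans h.le
  have hle : z ≤ genericPoint Y := Scheme.le_iff_specializes.2 (genericPoint_specializes z)
  by_contra hne
  have hlt : z < genericPoint Y := lt_of_le_not_ge hle fun h =>
    hne (((Scheme.le_iff_specializes.1 h).antisymm (genericPoint_specializes z)).eq)
  have hh := Order.height_strictMono hlt (by
    rw [(WeilCohLib.height_eq (Y ↘ Spec (CommRingCat.of k)) z).1]; exact ENat.coe_lt_top _)
  rw [(WeilCohLib.height_eq (Y ↘ Spec (CommRingCat.of k)) z).1,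
    (WeilCohLib.height_eq (Y ↘ Spec (CommRingCat.of k)) _).1, hpY, Nat.cast_lt] at hh
  omega

/-- The generic rank of the direct image of an invertible module is the degree. -/
theorem finrank_push_stalk (hf : f ≫ (X ↘ Spec (CommRingCat.of k)) = Y ↘ Spec (CommRingCat.of k))
    (hdom : f.base (genericPoint Y) = genericPoint X)
    (hfib : ∀ z : Y, f z = genericPoint X → z = genericPoint Y) {M : Y.Modules} (hM : PicF.IsInvertible M) :
    Module.finrank (X.presheaf.stalk (genericPoint X))
      (((Scheme.Modules.pushforward f).obj M).presheaf.stalk (genericPoint X)) =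
        f.residueDegree (genericPoint Y) := by
  haveI := EulerIneqLib.isNoetherian_proper (X := Y) k
  haveI : IsProper (f ≫ (X ↘ Spec (CommRingCat.of k))) := by rw [hf]; infer_instance
  haveI : IsProper f := IsProper.of_comp f (X ↘ Spec (CommRingCat.of k))
  have hξ : f (genericPoint Y) = genericPoint X := hdom
  have hb : Function.Bijective (pushStalk f M (genericPoint Y)) := by
    refine ProperFin.bijective_pushStalk_of_nhds f M _ fun W hW => ?_
    refine ⟨⟨(f '' (W : Set Y)ᶜ)ᶜ, (f.isClosedMap _ W.2.isClosed_compl).isOpen_compl⟩, ?_, fun z hz => ?_⟩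
    · rintro ⟨z, hz, e⟩
      exact hz ((hfib z (e.trans hξ)) ▸ hW)
    · by_contra hzW
      exact hz ⟨z, hzW, rfl⟩
  let u : Y.presheaf.stalk (genericPoint Y) ≃ₗ[Y.presheaf.stalk (genericPoint Y)]
      (Coh.structureModule Y).presheaf.stalk (genericPoint Y) :=
    LinearEquiv.ofBijective (LinearMap.toSpanSingleton _ _ (ParaFLib.oneG (genericPoint Y)))
      (ParaFLib.bijective_oneG (genericPoint Y))
  obtain ⟨θ⟩ := nonempty_stalk_invertible hM (genericPoint Y)
  let w := θ.trans u.symm
  let j : ((Scheme.Modules.pushforward f).obj M).presheaf.stalk (f (genericPoint Y)) ≃+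
      Y.residueField (genericPoint Y) :=
    (AddEquiv.ofBijective (pushStalk f M (genericPoint Y)) hb).trans (w.toAddEquiv.trans
      (RingEquiv.ofBijective (Y.residue (genericPoint Y)).hom residue_bijective).toAddEquiv)
  have hX' : Function.Bijective (X.residue (f (genericPoint Y))).hom := by
    rw [hξ]; exact residue_bijective
  have hfr : Module.finrank (X.presheaf.stalk (f (genericPoint Y)))
      (((Scheme.Modules.pushforward f).obj M).presheaf.stalk (f (genericPoint Y))) =
        f.residueDegree (genericPoint Y) := by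
    letI := (f.residueFieldMap (genericPoint Y)).hom.toAlgebra
    refine congrArg Cardinal.toNat (rank_eq_of_equiv_equiv (X.residue (f (genericPoint Y))).hom j hX' fun a z => ?_)
    rw [Algebra.smul_def]
    show (Y.residue _).hom (w (pushStalk f M _ (a • z))) = _
    rw [pushStalk_smul, LinearEquiv.map_smul, smul_eq_mul, map_mul]
    congr 1
  have key : ∀ η : X, f (genericPoint Y) = η → Module.finrank (X.presheaf.stalk η)
      (((Scheme.Modules.pushforward f).obj M).presheaf.stalk η) = f.residueDegree (genericPoint Y) := by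
    rintro η rfl
    exact hfr
  exact key _ hξ

end Groth.Agent.HiGrowth
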