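import Groth.Agent.VolLib.MultiLim
import Groth.Agent.NakaiLib.Apps
import Groth.Agent.NakaiLib.Big

/-!
# The volume increases in nef directions
-/

set_option autoImplicit false
set_option backward.isDefEq.respectTransparency false
set_option linter.style.haveILetI false

universe u

open CategoryTheory CategoryTheory.Limits AlgebraicGeometry TopologicalSpace Filter
open Groth.Agent.DCohLib Groth.Agent.AmpleLib
open scoped ENNReal Topology

noncomputable section

namespace Groth.Agent.HiGrowth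

variable (k : Type u) [Field k] {X : Scheme.{u}} [X.Over (Spec (CommRingCat.of k))]
  [IsProper (X ↘ Spec (CommRingCat.of k))]

/-- The inverse of a numerically trivial module is nef. -/
theorem nefP_inverse {N N' : X.Modules} (hN : PicF.IsInvertible N) (hN' : PicF.IsInvertible N')
    (e : CohB1.tensorMod N N' ≅ Coh.structureModule X) (hnum : Pic13.IsNumEquivZero k X N) :
    Nakai.NefP k hN' := fun ξ hξ => by
  haveI := EulerIneqLib.isNoetherian_proper (X := X) k
  let J := Scheme.IdealSheafData.vanishingIdeal (⟨closure {ξ}, isClosed_closure⟩ : Closeds X)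
  have hd : topologicalKrullDim J.subscheme = ((1 : ℕ) : WithBot ℕ∞) := (Nakai.dim_vanishing ξ).trans hξ
  have h0 := hnum J.subscheme J.subschemeι
    (CurveLib.isIntegral_vanishingIdeal (X := X) isClosed_closure isIrreducible_singleton.closure)
    (hd.trans Nat.cast_one)
  rw [Nakai.curveDeg_eq k hN J.subschemeι hd] at h0
  have h1 : IntLib.pairing k (IntLib.compMod ξ) (Nakai.cl hN) = 0 := h0
  have hcz : Nakai.cl (AmpleLib.isInvertible_tensor hN hN') = 0 := by
    rw [Nakai.cl_congr _ ParaFLib.isInvertible_structureModule e, Nakai.cl,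
      show IntLib.inv' (ParaFLib.isInvertible_structureModule (X := X)) = 1 from Subtype.ext IntLib.mk_structureModule,
      map_one, sub_self]
  have hdim : topologicalKrullDim (CohB1.support (IntLib.compMod ξ)) < ((2 : ℕ) : WithBot ℕ∞) :=
    Nakai.dim_supp_quotMod (J := J) (d := 1) (by rw [Scheme.IdealSheafData.coe_support_vanishingIdeal]; exact hξ)
  have h2 : IntLib.pairing k (IntLib.compMod ξ) (Nakai.cl hN + Nakai.cl hN') = 0 := by
    rw [Nakai.pairing_congr k (n := 2) (w := Nakai.cl (AmpleLib.isInvertible_tensor hN hN')) ?_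
      (IntLib.isPiece_compMod ξ).coh hdim, hcz, map_zero]
    rw [Nakai.cl_tensor hN hN', sub_add_cancel_left, pow_two]
    exact neg_mem (Ideal.mul_mem_mul (Nakai.cl_mem _) (Nakai.cl_mem _))
  rw [map_add, h1, zero_add] at h2
  exact h2.ge

/-- A nef module twisted by an ample one is ample. -/
theorem isAmple_nef_twist {N H : X.Modules} (hN : PicF.IsInvertible N) (hH : CohB1.IsAmple H)
    (hnef : Nakai.NefP k hN) (p : ℕ) : CohB1.IsAmple (CohB1.tensorMod (CohB1.tensorPow N p) H) := by
  refine Nakai.isAmple_of_cl k hN hH hnef (isInvertible_tensor (isInvertible_tensorPow hN p) hH.1) one_pos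
    (a := p) ?_
  rw [show Nakai.cl (isInvertible_tensor (isInvertible_tensorPow hN p) hH.1) = _ from
    Nakai.cl_tensor (isInvertible_tensorPow hN p) hH.1]
  have h2 : Nakai.cl (isInvertible_tensorPow hN p) * Nakai.cl hH.1 ∈ Nakai.Aug X ^ 2 := by
    rw [pow_two]; exact Ideal.mul_mem_mul (Nakai.cl_mem _) (Nakai.cl_mem _)
  convert Ideal.add_mem _ (Nakai.cl_tensorPow_sub_mem hN p) h2 using 1
  push_cast
  ring

/-- The volume, up to the factorial. -/
def evol (d : ℕ) (L : X.Modules) : ℝ≥0∞ :=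
  limsup (fun m : ℕ => (VolLib.h k (CohB1.tensorPow L m) : ℝ≥0∞) / (m : ℝ≥0∞) ^ d) atTop

variable [IsIntegral X]

omit [IsProper (X ↘ Spec (CommRingCat.of k))] [IsIntegral X] in
theorem evol_congr (d : ℕ) {L L' : X.Modules} (e : L ≅ L') : evol k d L = evol k d L' := by
  simp only [evol, VolLib.h_congr k (powCongr e _)]

theorem evol_le_twist {d : ℕ} (hd : topologicalKrullDim X = d) {W H : X.Modules} (hW : PicF.IsInvertible W)
    (hH : PicF.IsInvertible H) : ∃ C : ℕ, ∀ p : ℕ, 1 ≤ p →
      evol k d (CohB1.tensorMod (CohB1.tensorPow W p) H) * p ≤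
        (p : ℝ≥0∞) ^ d * evol k d W * p + (C : ℝ≥0∞) * (p : ℝ≥0∞) ^ d := by
  obtain ⟨C, hC⟩ := lipschitz k (E := fun b : Bool => if b then W else H)
    (fun b => by cases b <;> simp [hW, hH]) hd 0
  refine ⟨C * 3 ^ d, fun p hp => ?_⟩
  have hp0 : (p : ℝ≥0∞) ≠ 0 := Nat.cast_ne_zero.2 (by omega)
  have hpw : evol k d (CohB1.tensorPow W p) = (p : ℝ≥0∞) ^ d * evol k d W := VolLib.limsup_pow_eq k hW d p hp
  rw [← hpw]
  set K : ℝ≥0∞ := ((C * 3 ^ d : ℕ) : ℝ≥0∞) * (p : ℝ≥0∞) ^ d / p with hK
  have hb : ∀ m : ℕ, 1 ≤ m →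
      (VolLib.h k (CohB1.tensorPow (CohB1.tensorMod (CohB1.tensorPow W p) H) m) : ℝ≥0∞) / (m : ℝ≥0∞) ^ d ≤
        (VolLib.h k (CohB1.tensorPow (CohB1.tensorPow W p) m) : ℝ≥0∞) / (m : ℝ≥0∞) ^ d + K := by
    intro m hm
    obtain ⟨h1, -⟩ := hC (List.replicate m false) (List.replicate (p * m) true)
    rw [hiW_eq, hiW_eq, List.map_append, List.prod_append, List.map_replicate, List.map_replicate,
      List.prod_replicate, List.prod_replicate, List.length_replicate, List.length_replicate] at h1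
    simp only [Bool.false_eq_true, ↓reduceIte] at h1
    have e1 : IntLib.mk H ^ m * IntLib.mk W ^ (p * m) =
        IntLib.mk (CohB1.tensorPow (CohB1.tensorMod (CohB1.tensorPow W p) H) m) := by
      rw [IntLib.mk_tensorPow, IntLib.mk_tensor, IntLib.mk_tensorPow, mul_pow, pow_mul, mul_comm]
    have e2 : IntLib.mk W ^ (p * m) = IntLib.mk (CohB1.tensorPow (CohB1.tensorPow W p) m) := by
      rw [IntLib.mk_tensorPow, IntLib.mk_tensorPow, pow_mul]
    rw [e1, e2, hcl_mk, hcl_mk] at h1
    have h2 : C * m * B d (m + p * m) * p ≤ C * 3 ^ d * p ^ d * m ^ d := by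
      cases d with
      | zero => simp [B]
      | succ j =>
        have h3 : (m + p * m + 1) ^ j ≤ 3 ^ j * p ^ j * m ^ j := by
          rw [← mul_pow, ← mul_pow]
          exact Nat.pow_le_pow_left (by nlinarith) j
        calc C * m * B (j + 1) (m + p * m) * p ≤ C * m * (3 ^ j * p ^ j * m ^ j) * p :=
              Nat.mul_le_mul_right _ (Nat.mul_le_mul_left _ h3)
          _ = C * (3 ^ j * 1) * p ^ (j + 1) * m ^ (j + 1) := by ring
          _ ≤ _ := by
            rw [pow_succ 3 j]
            gcongr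
            omega
    rw [← ENNReal.mul_le_mul_iff_left hp0 (ENNReal.natCast_ne_top p), add_mul, hK,
      ENNReal.div_mul_cancel hp0 (ENNReal.natCast_ne_top p)]
    have hm0 : (m : ℝ≥0∞) ^ d ≠ 0 := pow_ne_zero _ (Nat.cast_ne_zero.2 (by omega))
    have hmt : (m : ℝ≥0∞) ^ d ≠ ⊤ := ENNReal.pow_ne_top (ENNReal.natCast_ne_top m)
    rw [← ENNReal.mul_le_mul_iff_left hm0 hmt, add_mul, mul_right_comm _ (p : ℝ≥0∞), ENNReal.div_mul_cancel hm0 hmt,
      mul_right_comm _ (p : ℝ≥0∞), ENNReal.div_mul_cancel hm0 hmt]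
    exact_mod_cast (Nat.mul_le_mul_right p h1).trans (by rw [Nat.add_mul]; exact Nat.add_le_add_left h2 _)
  have h5 : evol k d (CohB1.tensorMod (CohB1.tensorPow W p) H) ≤ evol k d (CohB1.tensorPow W p) + K := by
    refine le_of_forall_gt_imp_ge_of_dense fun c hc => ?_
    have hc' : evol k d (CohB1.tensorPow W p) < c - K := lt_tsub_iff_right.2 hc
    refine limsup_le_of_le (by isBoundedDefault) (((eventually_lt_of_limsup_lt hc').and (eventually_ge_atTop 1)).mono
      fun m hm => (hb m hm.2).trans ((lt_tsub_iff_right.1 hm.1).le))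
  refine (mul_le_mul_left h5 _).trans_eq ?_
  rw [add_mul, hK, ENNReal.div_mul_cancel hp0 (ENNReal.natCast_ne_top p)]

/-- The volume increases in nef directions. -/
theorem evol_le_nef {d : ℕ} (hd : topologicalKrullDim X = d) {L N H : X.Modules} (hL : PicF.IsInvertible L)
    (hN : PicF.IsInvertible N) (hnef : Nakai.NefP k hN) (hH : CohB1.IsAmple H) :
    evol k d L ≤ evol k d (CohB1.tensorMod L N) := by
  have hW := isInvertible_tensor hL hN
  obtain ⟨C, hC⟩ := evol_le_twist k hd hW hH.1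
  have key : ∀ p : ℕ, 1 ≤ p → evol k d L ≤ evol k d (CohB1.tensorMod L N) + (C : ℝ≥0∞) / p := by
    intro p hp
    have hE := isAmple_nef_twist k hN hH hnef p
    obtain ⟨q, hq⟩ := Nakai.exists_h_ne_zero k (A := CohB1.tensorMod (CohB1.tensorPow N p) H) hE
      (ParaFLib.isInvertible_structureModule (X := X))
    have hq1 : VolLib.h k (CohB1.tensorPow (CohB1.tensorMod (CohB1.tensorPow N p) H) (q + 1)) ≠ 0 := by
      rw [← VolLib.h_congr k (unitL _)]
      exact hq (q + 1) (by omega)
    have hLp := isInvertible_tensorPow hL p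
    have h1 : evol k d (CohB1.tensorPow (CohB1.tensorPow L p) (q + 1)) ≤
        evol k d (CohB1.tensorPow (CohB1.tensorMod (CohB1.tensorPow L p)
          (CohB1.tensorMod (CohB1.tensorPow N p) H)) (q + 1)) :=
      (VolLib.limsup_le_tensor k (isInvertible_tensorPow hLp (q + 1)) (isInvertible_tensorPow hE.1 (q + 1)) hq1 d).trans_eq
        (evol_congr k d (powTensor _ _ (q + 1)).symm)
    rw [evol, VolLib.limsup_pow_eq k hLp d (q + 1) q.succ_pos, evol,
      VolLib.limsup_pow_eq k (isInvertible_tensor hLp hE.1) d (q + 1) q.succ_pos,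
      ENNReal.mul_le_mul_iff_right (pow_ne_zero _ (Nat.cast_ne_zero.2 q.succ_ne_zero))
        (ENNReal.pow_ne_top (ENNReal.natCast_ne_top _))] at h1
    have h2 : (p : ℝ≥0∞) ^ d * evol k d L ≤
        evol k d (CohB1.tensorMod (CohB1.tensorPow (CohB1.tensorMod L N) p) H) := by
      rw [evol, ← VolLib.limsup_pow_eq k hL d p hp]
      exact h1.trans_eq (evol_congr k d ((AmpleLib.assoc _ _ _).symm ≪≫ tIso (powTensor L N p).symm (Iso.refl H)))
    have hp0 : (p : ℝ≥0∞) ≠ 0 := Nat.cast_ne_zero.2 (by omega)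
    have h3 := (mul_le_mul_left h2 (p : ℝ≥0∞)).trans (hC p hp)
    rw [mul_assoc, mul_assoc, mul_comm (C : ℝ≥0∞), ← mul_add, ENNReal.mul_le_mul_iff_right
      (pow_ne_zero _ hp0) (ENNReal.pow_ne_top (ENNReal.natCast_ne_top p))] at h3
    calc evol k d L = evol k d L * p / p := (ENNReal.mul_div_cancel_right hp0 (ENNReal.natCast_ne_top p)).symm
      _ ≤ (evol k d (CohB1.tensorMod L N) * p + C) / p := ENNReal.div_le_div_right h3 _
      _ = _ := by rw [ENNReal.add_div, ENNReal.mul_div_cancel_right hp0 (ENNReal.natCast_ne_top p)]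
  have ht : Tendsto (fun p : ℕ => evol k d (CohB1.tensorMod L N) + (C : ℝ≥0∞) / p) atTop
      (𝓝 (evol k d (CohB1.tensorMod L N))) := by
    simpa [div_eq_mul_inv] using (tendsto_const_nhds (x := evol k d (CohB1.tensorMod L N))).add
      (ENNReal.Tendsto.const_mul ENNReal.tendsto_inv_nat_nhds_zero (Or.inr (ENNReal.natCast_ne_top C)))
  exact ge_of_tendsto ht (eventually_atTop.2 ⟨1, key⟩)

end Groth.Agent.HiGrowth
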