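import Groth.Agent.VolLib.HiLim

/-!
# Cohomology of sums
-/

set_option autoImplicit false
set_option backward.isDefEq.respectTransparency false
set_option linter.style.haveILetI false

universe u

open CategoryTheory CategoryTheory.Limits AlgebraicGeometry Filter
open Groth.Agent.DCohLib Groth.Agent.AmpleLib

noncomputable section

namespace Groth.Agent.HiGrowth

variable (k : Type u) [Field k] {X : Scheme.{u}} [X.Over (Spec (CommRingCat.of k))]

theorem hMap_comp_apply {M N P : X.Modules} (f : M ⟶ N) (g : N ⟶ P) (i : ℕ) (x : Coh.HH X M i) :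
    CurveLib.hMap (k := k) g i (CurveLib.hMap (k := k) f i x) = CurveLib.hMap (k := k) (f ≫ g) i x := by
  show Sheaf.H.map _ i (Sheaf.H.map _ i x) = Sheaf.H.map _ i x
  rw [← Sheaf.H.map_comp_apply, ← Functor.map_comp]

theorem hMap_id_apply {M : X.Modules} (i : ℕ) (x : Coh.HH X M i) : CurveLib.hMap (k := k) (𝟙 M) i x = x := by
  show Sheaf.H.map _ i x = x
  rw [CategoryTheory.Functor.map_id, Sheaf.H.map_id_apply]

/-- Cohomology of a split extension. -/
theorem finrank_of_splitting [IsProper (X ↘ Spec (CommRingCat.of k))] {S : ShortComplex X.Modules}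
    (s : S.Splitting) (h₂ : Coh.IsCoh S.X₂) (i : ℕ) :
    Module.finrank k (Coh.HH X S.X₂ i) = Module.finrank k (Coh.HH X S.X₁ i) + Module.finrank k (Coh.HH X S.X₃ i) := by
  haveI := EulerIneqLib.finite_HH (k := k) h₂ i
  have hf : Function.Injective (CurveLib.hMap (k := k) S.f i) :=
    Function.LeftInverse.injective (g := CurveLib.hMap (k := k) s.r i) fun x => by
      rw [hMap_comp_apply, s.f_r, hMap_id_apply]
  have hg : Function.Surjective (CurveLib.hMap (k := k) S.g i) := fun x =>
    ⟨CurveLib.hMap (k := k) s.s i x, by rw [hMap_comp_apply, s.s_g, hMap_id_apply]⟩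
  have h1 := (CurveLib.hMap (k := k) S.g i).finrank_range_add_finrank_ker
  rw [LinearMap.range_eq_top.2 hg, finrank_top, ← CurveLib.range_hMap_f s.shortExact i,
    LinearMap.finrank_range_of_inj hf] at h1
  omega

/-- The cohomology of twists of a sum. -/
theorem hi_biprod [IsProper (X ↘ Spec (CommRingCat.of k))] {L P Q : X.Modules} (hL : PicF.IsInvertible L)
    (hP : Coh.IsCoh P) (hQ : Coh.IsCoh Q) (i m : ℕ) :
    hi k L (P ⊞ Q) i m = hi k L P i m + hi k L Q i m := by
  haveI := EulerIneqLib.isNoetherian_proper (X := X) k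
  exact finrank_of_splitting k
    ((ShortComplex.Splitting.ofHasBinaryBiproduct P Q).map (CurveLib.tensR (CohB1.tensorPow L m)))
    (HilbLib.isCoh_twist hL (DevLib.isCoh_biprod hP hQ) m) i

/-- There is a module of every rank with proportional cohomology. -/
theorem exists_rank [IsIntegral X] [IsProper (X ↘ Spec (CommRingCat.of k))] (r : ℕ) :
    ∃ G : X.Modules, Coh.IsCoh G ∧
      Nonempty (G.presheaf.stalk (genericPoint X) ≃ₗ[X.presheaf.stalk (genericPoint X)]
        (Fin r → X.presheaf.stalk (genericPoint X))) ∧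
      ∀ (L : X.Modules), PicF.IsInvertible L → ∀ i m, hi k L G i m = r * hi k L (Coh.structureModule X) i m := by
  haveI := EulerIneqLib.isNoetherian_proper (X := X) k
  induction r with
  | zero =>
    have hz : IsZero (cokernel (𝟙 (Coh.structureModule X))) := isZero_cokernel_of_epi _
    refine ⟨_, DevLib.isCoh_of_isZero hz, ?_, fun L hL i m => ?_⟩
    · haveI : Subsingleton ((cokernel (𝟙 (Coh.structureModule X))).presheaf.stalk (genericPoint X)) := by
        by_contra hne
        exact Set.notMem_empty (genericPoint X) ((HilbLib.support_eq_empty_of_isZero hz) ▸ hne)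
      exact ⟨LinearEquiv.ofBijective (0 : _ →ₗ[_] _)
        ⟨fun a b _ => Subsingleton.elim a b, fun b => ⟨0, Subsingleton.elim _ _⟩⟩⟩
    · haveI : Subsingleton (Coh.HH X (ShStab.twist X L (cokernel (𝟙 (Coh.structureModule X))) m) i) :=
        subsingleton_HH_of_isZero ((CurveLib.tensR (CohB1.tensorPow L m)).map_isZero hz) i
      rw [Nat.zero_mul]
      exact Module.finrank_zero_of_subsingleton
  | succ r ih =>
    obtain ⟨G, hG, ⟨θ⟩, hGe⟩ := ih
    have hO := CurveLib.isCoh_of_isInvertible (ParaFLib.isInvertible_structureModule (X := X))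
    refine ⟨(G ⊞ Coh.structureModule X : X.Modules), DevLib.isCoh_biprod hG hO, ?_, fun L hL i m => ?_⟩
    · exact ⟨(DevLib.stalkBiprodEquiv G (Coh.structureModule X) (genericPoint X)).trans ((θ.prodCongr
        (LinearEquiv.ofBijective (LinearMap.toSpanSingleton _ _ (ParaFLib.oneG (genericPoint X)))
          (ParaFLib.bijective_oneG _)).symm).trans ((LinearEquiv.prodComm _ _ _).trans
        (Fin.consLinearEquiv _ (fun _ => X.presheaf.stalk (genericPoint X)))))⟩
    · rw [hi_biprod k hL hG hO, hGe L hL, Nat.succ_mul]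

end Groth.Agent.HiGrowth
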