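import Groth.Agent.VolLib.HiLim
import Groth.Agent.NakaiLib.GenGrowth
import Groth.Agent.CurveLib.Euler

/-!
# Cohomology in degrees above the dimension of the stable base locus
-/

set_option autoImplicit false
set_option backward.isDefEq.respectTransparency false
set_option linter.style.haveILetI false

universe u

open CategoryTheory CategoryTheory.Limits AlgebraicGeometry TopologicalSpace Filter
open Groth.Agent.DCohLib Groth.Agent.AmpleLib Groth.Agent.DevLib

noncomputable section

namespace Groth.Agent.HiGrowth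

variable (k : Type u) [Field k] {X : Scheme.{u}} [X.Over (Spec (CommRingCat.of k))]
  [IsProper (X ↘ Spec (CommRingCat.of k))]

omit k in
/-- The stable base locus is closed. -/
theorem isClosed_stableBaseLocus (L : X.Modules) : IsClosed (W4c5asymptcohfn.stableBaseLocus X L) := by
  refine isClosed_iInter fun m => isOpen_compl_iff.1 ?_
  have e : (W4c5asymptcohfn.baseLocus X (CohB1.tensorPow L (m + 1)))ᶜ =
      ⋃ s : Coh.structureModule X ⟶ CohB1.tensorPow L (m + 1), (CohB1.genLocus _ s : Set X) := by
    ext x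
    simp [W4c5asymptcohfn.baseLocus]
  rw [e]
  exact isOpen_iUnion fun s => (CohB1.genLocus _ s).isOpen

/-- Above the dimension of the stable base locus the bound improves by one. -/
theorem bound_above {L : X.Modules} (hL : PicF.IsInvertible L) {d : ℕ}
    (hd : topologicalKrullDim ↥(W4c5asymptcohfn.stableBaseLocus X L) ≤ (d : WithBot ℕ∞)) :
    ∀ (n : ℕ) (M : X.Modules), Coh.IsCoh M →
      topologicalKrullDim (CohB1.support M) < ((n + 1 : ℕ) : WithBot ℕ∞) →
      ∀ i, d < i → ∃ C, ∀ m, hi k L M i m ≤ C * B n m := by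
  haveI := EulerIneqLib.isNoetherian_proper (X := X) k
  have hvan : ∀ (M : X.Modules) (e i : ℕ), Coh.IsCoh M → topologicalKrullDim (CohB1.support M) ≤ (e : WithBot ℕ∞) →
      e < i → ∀ m, hi k L M i m = 0 := fun M e i hM he hei m => by
    haveI : Subsingleton (Coh.HH X (ShStab.twist X L M m) i) :=
      CurveLib.subsingleton_HH_of_support _ (isClosed_support hM)
        (show CohB1.support (CohB1.tensorMod M (CohB1.tensorPow L m)) ⊆ _ from
          (HilbLib.support_tensor (isInvertible_tensorPow hL m) M).le) he hei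
    exact Module.finrank_zero_of_subsingleton
  intro n
  induction n with
  | zero =>
    intro M hM hdM i hdi
    refine ⟨0, fun m => ?_⟩
    rw [hvan M 0 i hM ?_ (by omega) m]
    · exact Nat.zero_le _
    · revert hdM
      generalize topologicalKrullDim (CohB1.support M) = a
      induction a with
      | bot => exact fun _ => bot_le
      | coe a =>
        intro h
        have h' : a < ((0 : ℕ∞) + 1) := by exact_mod_cast h
        exact_mod_cast ((ENat.lt_add_one_iff (ENat.coe_ne_top 0)).1 h')
  | succ n ih =>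
    intro M hM hdM
    refine devissage (CohB1.support M) (fun N => ∀ i, d < i → ∃ C, ∀ m, hi k L N i m ≤ C * B (n + 1) m)
      (fun A A' ⟨e⟩ h i hdi => ?_) (fun A hA i hdi => ⟨0, fun m => ?_⟩) ?_ ?_ M hM subset_rfl
    · obtain ⟨C, hC⟩ := h i hdi
      exact ⟨C, fun m => (hi_congr k L e i m).symm.trans_le (hC m)⟩
    · haveI : Subsingleton (Coh.HH X (ShStab.twist X L A m) i) :=
        subsingleton_HH_of_isZero ((CurveLib.tensR (CohB1.tensorPow L m)).map_isZero hA) i
      rw [zero_mul]
      exact Module.finrank_zero_of_subsingleton.le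
    · intro S hS h₁ h₂ h₃ _ hP hQ i hdi
      obtain ⟨C, hC⟩ := hP i hdi
      obtain ⟨D, hD⟩ := hQ i hdi
      refine ⟨C + D, fun m => ((ineqs k hL hS h₁ h₂ h₃ i m).2.1).trans ?_⟩
      rw [Nat.add_mul]
      exact Nat.add_le_add (hC m) (hD m)
    intro ξ _ hξT Q hQ _ i hdi
    by_cases hξZ : ξ ∈ W4c5asymptcohfn.stableBaseLocus X L
    · refine ⟨0, fun m => ?_⟩
      rw [hvan Q d i hQ.coh (le_trans ((Topology.IsEmbedding.inclusion fun y hy =>
        (hQ.supp y hy).mem_closed (isClosed_stableBaseLocus L) hξZ).isInducing.topologicalKrullDim_le) hd) hdi m]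
      exact Nat.zero_le _
    simp only [W4c5asymptcohfn.stableBaseLocus, Set.mem_iInter, not_forall,
      W4c5asymptcohfn.baseLocus, Set.mem_ofPred_eq, not_not] at hξZ
    obtain ⟨a, s, hs⟩ := hξZ
    have hLa := isInvertible_tensorPow hL (a + 1)
    obtain ⟨μ, hμ, hμs, hμn, -⟩ := Nakai.exists_mulS_piece hLa s hs hQ
    have hQc := hQ.coh
    have hQL : Coh.IsCoh (tmod Q (CohB1.tensorPow L (a + 1))) :=
      CurveLib.isCoh_tmod hQc (CurveLib.isCoh_of_isInvertible hLa)
    have hC := (QCohLib.isCoh_kernel_cokernel μ hQc hQL).2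
    obtain ⟨C, hCb⟩ := ih (cokernel μ) hC (HilbLib.dim_lt_of_notMem (isClosed_support hC)
      (fun y hy => specializes_iff_mem_closure.1 (hμs y hy)) hμn (HilbLib.isClosed_closure_le hξT hdM)) i hdi
    have hstep : ∀ m, hi k L Q i (m + (a + 1)) ≤ hi k L Q i m + C * B n m := fun m => by
      have e : hi k L (tmod Q (CohB1.tensorPow L (a + 1))) i m = hi k L Q i (m + (a + 1)) :=
        hh_congr k (AmpleLib.assoc Q _ _ ≪≫ tIso (Iso.refl Q) (comm _ _ ≪≫ (powAdd L m (a + 1)).symm)) i
      rw [← e]
      exact ((ineqs k hL (cokerSeq_shortExact μ) hQc hQL hC i m).2.1).trans (Nat.add_le_add_left (hCb m) _)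
    refine ⟨(∑ r ∈ Finset.range (a + 1), hi k L Q i r) + C, fun m => ?_⟩
    induction m using Nat.strong_induction_on with
    | _ m ihm =>
      by_cases hm : m < a + 1
      · exact le_trans (le_trans (Finset.single_le_sum (f := fun r => hi k L Q i r) (fun _ _ => Nat.zero_le _)
          (Finset.mem_range.2 hm)) (Nat.le_add_right _ C)) (Nat.le_mul_of_pos_right _ (pow_pos (Nat.succ_pos m) n))
      obtain ⟨m', rfl⟩ : ∃ m', m = m' + (a + 1) := ⟨m - (a + 1), by omega⟩
      refine (hstep m').trans ((Nat.add_le_add (ihm m' (by omega))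
        (Nat.mul_le_mul_right _ (Nat.le_add_left C (∑ r ∈ Finset.range (a + 1), hi k L Q i r)))).trans ?_)
      rw [← Nat.mul_add]
      exact Nat.mul_le_mul_left _ ((B_add_le n m').trans (Nat.pow_le_pow_left (by omega) n))

variable [IsIntegral X]

/-- The functions vanish above the dimension of the stable base locus. -/
theorem hhat_eq_zero {n : ℕ} (hn : topologicalKrullDim X = n) {L : X.Modules} (hL : PicF.IsInvertible L) {d : ℕ}
    (hd : topologicalKrullDim ↥(W4c5asymptcohfn.stableBaseLocus X L) ≤ (d : WithBot ℕ∞)) {i : ℕ} (hi : d < i) :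
    W4c5asymptcohfn.hhat k X n i L = 0 := by
  haveI := EulerIneqLib.isNoetherian_proper (X := X) k
  obtain ⟨C, hC⟩ := bound_above k hL hd n (Coh.structureModule X)
    (CurveLib.isCoh_of_isInvertible ParaFLib.isInvertible_structureModule) (lt_of_le_of_lt
      Topology.IsInducing.subtypeVal.topologicalKrullDim_le (by rw [hn]; exact_mod_cast Nat.lt_succ_self n)) i hi
  rw [hhat_eq]
  unfold W4c5asymptcohfn.hhatF
  refine Tendsto.limsup_eq ?_
  refine squeeze_zero (cohSeq_nonneg k n i _ L) (fun m => ?_)
    (by simpa using (tendsto_B n).const_mul ((C : ℝ) * n.factorial))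
  rw [cohSeq_eq, ← mul_div_assoc, mul_right_comm]
  refine div_le_div_of_nonneg_right (mul_le_mul_of_nonneg_right ?_ (Nat.cast_nonneg _)) (by positivity)
  exact_mod_cast hC m

end Groth.Agent.HiGrowth
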