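import Groth.Agent.HopfSecLib.Main
import Groth.Agent.AmpleLib.Tensor
import Groth.Agent.ProjCoh.PSData
import Mathlib.Analysis.SpecificLimits.Basic

/-! # Growth of sections of powers of an invertible module -/

set_option autoImplicit false
set_option backward.isDefEq.respectTransparency false
set_option linter.style.haveILetI false

universe u

open CategoryTheory CategoryTheory.Limits AlgebraicGeometry TopologicalSpace Opposite Filter
open Groth.Agent.DCohLib Groth.Agent.AmpleLib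
open scoped ENNReal Topology

noncomputable section

namespace Groth.Agent.VolLib

/-- A sequence growing along the indices where it is nonzero has homogeneous upper limit. -/
theorem limsup_mul_eq (f : ℕ → ℝ≥0∞) (hf : ∀ s, f s ≠ 0 → ∀ m, f m ≤ f (m + s)) (d a : ℕ) (ha : 0 < a) :
    limsup (fun m : ℕ => f (a * m) / (m : ℝ≥0∞) ^ d) atTop =
      (a : ℝ≥0∞) ^ d * limsup (fun m : ℕ => f m / (m : ℝ≥0∞) ^ d) atTop := by
  set g : ℕ → ℝ≥0∞ := fun m => f m / (m : ℝ≥0∞) ^ d with hg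
  have ha' : (a : ℝ≥0∞) ≠ 0 := by exact_mod_cast ha.ne'
  have h1 : (fun m : ℕ => f (a * m) / (m : ℝ≥0∞) ^ d) = fun m => (a : ℝ≥0∞) ^ d * g (a * m) := by
    funext m
    simp only [hg, Nat.cast_mul, mul_pow, div_eq_mul_inv]
    rw [ENNReal.mul_inv (Or.inl (pow_ne_zero _ ha')) (Or.inl (ENNReal.pow_ne_top (ENNReal.natCast_ne_top a))),
      mul_comm ((a : ℝ≥0∞) ^ d), mul_assoc, mul_assoc, mul_comm _ ((a : ℝ≥0∞) ^ d), ← mul_assoc ((a : ℝ≥0∞) ^ d)⁻¹,
      ENNReal.inv_mul_cancel (pow_ne_zero _ ha') (ENNReal.pow_ne_top (ENNReal.natCast_ne_top a)), one_mul]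
  rw [h1, ENNReal.limsup_const_mul_of_ne_top (ENNReal.pow_ne_top (ENNReal.natCast_ne_top a))]
  congr 1
  have hmul : Tendsto (fun m : ℕ => a * m) atTop atTop :=
    tendsto_atTop_mono (fun m => Nat.le_mul_of_pos_left m ha) tendsto_id
  refine le_antisymm ?_ ?_
  · exact (limsup_comp g (fun m => a * m) atTop).le.trans (limsup_le_limsup_of_le hmul)
  -- the semigroup of indices
  have hsemi : ∀ m, f m ≠ 0 → ∀ j, f ((j + 1) * m) ≠ 0 := by
    intro m hm j
    induction j with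
    | zero => simpa using hm
    | succ j ih =>
      intro h0
      have := hf m hm ((j + 1) * m)
      rw [show (j + 1) * m + m = (j + 1 + 1) * m by ring, h0, nonpos_iff_eq_zero] at this
      exact ih this
  classical
  let s : ℕ → ℕ := fun r => if h : ∃ s, f s ≠ 0 ∧ (s + r) % a = 0 then Nat.find h else 0
  let B := ∑ r ∈ Finset.range a, s r
  have key : ∀ m, f m ≠ 0 → ∃ j, m ≤ a * j ∧ a * j ≤ m + B ∧ f m ≤ f (a * j) := by
    intro m hm
    have hex : ∃ t, f t ≠ 0 ∧ (t + m % a) % a = 0 := by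
      obtain ⟨b, rfl⟩ : ∃ b, a = b + 1 := ⟨a - 1, by omega⟩
      refine ⟨(2 * b + 1) * m, hsemi m hm (2 * b), ?_⟩
      rw [Nat.add_mod, Nat.mod_mod, ← Nat.add_mod,
        show (2 * b + 1) * m + m = (b + 1) * (2 * m) by ring, Nat.mul_mod_right]
    obtain ⟨ht, htmod⟩ := Nat.find_spec hex
    have hs : s (m % a) = Nat.find hex := dif_pos hex
    have hB : Nat.find hex ≤ B := by
      rw [← hs]
      exact Finset.single_le_sum (f := s) (fun _ _ => Nat.zero_le _) (Finset.mem_range.2 (Nat.mod_lt _ ha))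
    obtain ⟨j, hj⟩ : a ∣ m + Nat.find hex := by
      rw [Nat.dvd_iff_mod_eq_zero, Nat.add_comm]
      rwa [Nat.add_mod, Nat.mod_mod, ← Nat.add_mod] at htmod
    exact ⟨j, hj ▸ Nat.le_add_right _ _, hj ▸ Nat.add_le_add_left hB m, hj ▸ hf _ ht m⟩
  refine le_of_forall_gt_imp_ge_of_dense fun c hc => ?_
  have hev := eventually_lt_of_limsup_lt hc
  obtain ⟨N₀, hN₀⟩ := eventually_atTop.1 hev
  have hbound : ∀ K : ℕ, 0 < K → limsup g atTop ≤ c * (1 + (K : ℝ≥0∞)⁻¹) ^ d := by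
    intro K hK
    refine limsup_le_of_le (by isBoundedDefault) (eventually_atTop.2 ⟨(a * N₀) + K * B + 1, fun m hm => ?_⟩)
    by_cases hfm : f m = 0
    · simp [hg, hfm]
    obtain ⟨j, hj₁, hj₂, hj₃⟩ := key m hfm
    have hjN : N₀ ≤ j := Nat.le_of_mul_le_mul_left (by omega) ha
    have hm0 : (m : ℝ≥0∞) ≠ 0 := by exact_mod_cast (by omega : m ≠ 0)
    have hK0 : (K : ℝ≥0∞) ≠ 0 := by exact_mod_cast hK.ne'
    have hratio : ((a * j : ℕ) : ℝ≥0∞) ≤ (m : ℝ≥0∞) * (1 + (K : ℝ≥0∞)⁻¹) := by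
      rw [mul_add, mul_one]
      refine le_trans (Nat.cast_le.2 hj₂) ?_
      rw [Nat.cast_add]
      refine add_le_add le_rfl ?_
      rw [← div_eq_mul_inv, ENNReal.le_div_iff_mul_le (Or.inl hK0) (Or.inl (ENNReal.natCast_ne_top K))]
      exact_mod_cast (by rw [mul_comm]; omega : B * K ≤ m)
    have hgj : f (a * j) ≤ c * ((a * j : ℕ) : ℝ≥0∞) ^ d := by
      have h0 : ((a * j : ℕ) : ℝ≥0∞) ^ d ≠ 0 := pow_ne_zero _ (by exact_mod_cast (by omega : a * j ≠ 0))
      exact (ENNReal.div_le_iff h0 (ENNReal.pow_ne_top (ENNReal.natCast_ne_top _))).1 (hN₀ j hjN).le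
    rw [hg]
    refine ENNReal.div_le_of_le_mul ?_
    calc f m ≤ f (a * j) := hj₃
      _ ≤ c * ((a * j : ℕ) : ℝ≥0∞) ^ d := hgj
      _ ≤ c * ((m : ℝ≥0∞) * (1 + (K : ℝ≥0∞)⁻¹)) ^ d := by gcongr
      _ = c * (1 + (K : ℝ≥0∞)⁻¹) ^ d * (m : ℝ≥0∞) ^ d := by rw [mul_pow]; ring
  have ht : Tendsto (fun K : ℕ => c * (1 + (K : ℝ≥0∞)⁻¹) ^ d) atTop (𝓝 c) := by
    have h1 : Tendsto (fun K : ℕ => (1 : ℝ≥0∞) + (K : ℝ≥0∞)⁻¹) atTop (𝓝 1) := by
      simpa using (tendsto_const_nhds (x := (1 : ℝ≥0∞))).add ENNReal.tendsto_inv_nat_nhds_zero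
    have h2 : Tendsto (fun K : ℕ => ((1 : ℝ≥0∞) + (K : ℝ≥0∞)⁻¹) ^ d) atTop (𝓝 1) := by
      simpa using ENNReal.Tendsto.pow (n := d) h1
    simpa using ENNReal.Tendsto.const_mul h2 (Or.inl one_ne_zero) (a := c)
  exact ge_of_tendsto ht (eventually_atTop.2 ⟨1, fun K hK => hbound K hK⟩)

variable (k : Type u) [Field k] {X : Scheme.{u}} [X.Over (Spec (CommRingCat.of k))]

/-- The dimension of the global sections. -/
abbrev h (N : X.Modules) : ℕ := Module.finrank k (Coh.HH X N 0)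

theorem h_congr {M N : X.Modules} (e : M ≅ N) : h k M = h k N :=
  ((ProjCoh.hhLinearEquiv e 0).toAddEquiv.toLinearEquiv fun c x =>
    map_smul (ProjCoh.hhLinearEquiv e 0) (Coh.toGlobal (X ↘ Spec (CommRingCat.of k)) c) x).finrank_eq

variable [IsIntegral X] [IsProper (X ↘ Spec (CommRingCat.of k))]

/-- Tensoring with an effective invertible module does not lose sections. -/
theorem h_le_tensor {M N : X.Modules} (hM : PicF.IsInvertible M) (hN : PicF.IsInvertible N)
    (hσ : h k N ≠ 0) : h k M ≤ h k (CohB1.tensorMod M N) := by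
  haveI := EulerIneqLib.isNoetherian_proper (X := X) k
  have hM' := CurveLib.isFinLocFree_of_isInvertible hM
  have hN' := CurveLib.isFinLocFree_of_isInvertible hN
  haveI : Module.Finite k (Coh.HH X (CohB1.tensorMod M N) 0) := EulerIneqLib.finite_HH (k := k)
    (CurveLib.isCoh_of_isFinLocFree (DCohLib.isFinLocFree_tensor hM' hN')) 0
  haveI : Nontrivial (Coh.HH X N 0) := Module.nontrivial_of_finrank_pos (R := k) (Nat.pos_of_ne_zero hσ)
  obtain ⟨τ, hτ⟩ := exists_ne (0 : Coh.HH X N 0)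
  let e : ∀ P : X.Modules, Γ(P, ⊤) ≃+ Coh.HH X P 0 := fun P => RpushLib.h0Γ P
  let c : k → Γ(X, ⊤) := fun a => Coh.toGlobal (X ↘ Spec (CommRingCat.of k)) a
  have he : ∀ (P : X.Modules) (a : k) (x : Γ(P, ⊤)), e P (c a • x) = a • e P x := fun P a x =>
    RpushLib.h0Γ_smul P (c a) x
  let f : Coh.HH X M 0 → Coh.HH X (CohB1.tensorMod M N) 0 := fun a =>
    e _ (pairS M N ((e M).symm a) ((e N).symm τ))
  have hf_add : ∀ a a', f (a + a') = f a + f a' := fun a a' => by
    simp only [f, map_add, pairS_add_left]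
  have hf_smul : ∀ (r : k) a, f (r • a) = r • f a := fun r a => by
    show e _ _ = r • e _ _
    rw [← he, ← pairS_smul_left]
    congr 2
    refine (e M).injective ?_
    rw [he, AddEquiv.apply_symm_apply, AddEquiv.apply_symm_apply]
  let φ : Coh.HH X M 0 →ₗ[k] Coh.HH X (CohB1.tensorMod M N) 0 :=
    { toFun := f
      map_add' := hf_add
      map_smul' := hf_smul }
  refine LinearMap.finrank_le_finrank_of_injective (f := φ) ((injective_iff_map_eq_zero φ).2 fun a ha => ?_)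
  by_contra hne
  refine HopfSecLib.pairS_ne_zero hM' hN' (σ := (e M).symm a) (τ := (e N).symm τ) ?_ ?_ ?_
  · exact fun h0 => hne (by rw [← (e M).apply_symm_apply a, h0, map_zero])
  · exact fun h0 => hτ (by rw [← (e N).apply_symm_apply τ, h0, map_zero])
  · exact (e _).injective (ha.trans (map_zero _).symm)

/-- Homogeneity of the volume. -/
theorem limsup_pow_eq {L : X.Modules} (hL : PicF.IsInvertible L) (d a : ℕ) (ha : 0 < a) :
    limsup (fun m : ℕ => (h k (CohB1.tensorPow (CohB1.tensorPow L a) m) : ℝ≥0∞) / (m : ℝ≥0∞) ^ d) atTop =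
      (a : ℝ≥0∞) ^ d *
        limsup (fun m : ℕ => (h k (CohB1.tensorPow L m) : ℝ≥0∞) / (m : ℝ≥0∞) ^ d) atTop := by
  rw [← limsup_mul_eq (fun m => (h k (CohB1.tensorPow L m) : ℝ≥0∞)) (fun s hs m => ?_) d a ha]
  · simp only [h_congr k (powMul L a _)]
  · refine Nat.cast_le.2 ?_
    rw [h_congr k (powAdd L m s)]
    exact h_le_tensor k (isInvertible_tensorPow hL m) (isInvertible_tensorPow hL s) (by exact_mod_cast hs)

/-- Tensor powers of an effective invertible module are effective. -/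
theorem h_pow_ne_zero {E : X.Modules} (hE : PicF.IsInvertible E) (hs : h k E ≠ 0) :
    ∀ m, h k (CohB1.tensorPow E (m + 1)) ≠ 0
  | 0 => by rwa [h_congr k (powOne E)]
  | m + 1 => fun h0 => h_pow_ne_zero hE hs m (by
      have := h_le_tensor k (isInvertible_tensorPow hE (m + 1)) hE hs
      exact Nat.eq_zero_of_le_zero (this.trans_eq h0))

/-- The volume increases in effective directions. -/
theorem limsup_le_tensor {L E : X.Modules} (hL : PicF.IsInvertible L) (hE : PicF.IsInvertible E)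
    (hs : h k E ≠ 0) (d : ℕ) :
    limsup (fun m : ℕ => (h k (CohB1.tensorPow L m) : ℝ≥0∞) / (m : ℝ≥0∞) ^ d) atTop ≤
      limsup (fun m : ℕ => (h k (CohB1.tensorPow (CohB1.tensorMod L E) m) : ℝ≥0∞) / (m : ℝ≥0∞) ^ d) atTop := by
  refine limsup_le_limsup (eventually_atTop.2 ⟨1, fun m hm => ?_⟩)
  obtain ⟨j, rfl⟩ : ∃ j, m = j + 1 := ⟨m - 1, by omega⟩
  refine ENNReal.div_le_div_right (Nat.cast_le.2 ?_) _
  rw [h_congr k (powTensor L E (j + 1))]
  exact h_le_tensor k (isInvertible_tensorPow hL _) (isInvertible_tensorPow hE _) (h_pow_ne_zero k hE hs j)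

end Groth.Agent.VolLib
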