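import Groth.Agent.VolLib.HiGrowth
import Groth.Agent.IntLib.Cls

/-!
# Growth of the cohomology of twists by several invertible modules
-/

set_option autoImplicit false
set_option backward.isDefEq.respectTransparency false
set_option linter.style.haveILetI false

universe u

open CategoryTheory CategoryTheory.Limits AlgebraicGeometry TopologicalSpace Opposite
open Groth.Agent.DCohLib Groth.Agent.AmpleLib Groth.Agent.DevLib Groth.Agent.QCohLib

noncomputable section

namespace Groth.Agent.HiGrowth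

variable (k : Type u) [Field k] {X : Scheme.{u}} [X.Over (Spec (CommRingCat.of k))]
variable {J : Type} (E : J → X.Modules)

omit [X.Over (Spec (CommRingCat.of k))] in
/-- The module of a word. -/
def pw : List J → X.Modules
  | [] => Coh.structureModule X
  | j :: w => CohB1.tensorMod (E j) (pw w)

omit k in
theorem mk_pw : ∀ w : List J, IntLib.mk (pw E w) = (w.map fun j => IntLib.mk (E j)).prod
  | [] => rfl
  | j :: w => by rw [List.map_cons, List.prod_cons, ← mk_pw w]; rfl

omit k in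
theorem isInvertible_pw (hE : ∀ j, PicF.IsInvertible (E j)) : ∀ w, PicF.IsInvertible (pw E w)
  | [] => ParaFLib.isInvertible_structureModule
  | j :: w => isInvertible_tensor (hE j) (isInvertible_pw hE w)

/-- `dim H^i` of a twist by a word. -/
abbrev hiW (M : X.Modules) (i : ℕ) (w : List J) : ℕ :=
  Module.finrank k (Coh.HH X (CohB1.tensorMod M (pw E w)) i)

/-- The bound by the model, in several variables. -/
def BoundW (M : X.Modules) (n : ℕ) : Prop := ∀ i, ∃ C, ∀ w, hiW k E M i w ≤ C * B n w.length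

/-- The same cohomology up to the model, in several variables. -/
def NearW (n : ℕ) (M N : X.Modules) : Prop :=
  ∀ i, ∃ C, ∀ w, hiW k E M i w ≤ hiW k E N i w + C * B n w.length ∧
    hiW k E N i w ≤ hiW k E M i w + C * B n w.length

theorem hiW_congr {M N : X.Modules} (e : M ≅ N) (i : ℕ) (w : List J) : hiW k E M i w = hiW k E N i w :=
  hh_congr k (tIso e (Iso.refl _)) i

theorem NearW.symm {M N : X.Modules} {n : ℕ} (h : NearW k E n M N) : NearW k E n N M := fun i => by
  obtain ⟨C, hC⟩ := h i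
  exact ⟨C, fun w => ⟨(hC w).2, (hC w).1⟩⟩

theorem NearW.trans {M N P : X.Modules} {n : ℕ} (h : NearW k E n M N) (h' : NearW k E n N P) :
    NearW k E n M P := fun i => by
  obtain ⟨C, hC⟩ := h i
  obtain ⟨D, hD⟩ := h' i
  refine ⟨C + D, fun w => ?_⟩
  obtain ⟨h1, h2⟩ := hC w
  obtain ⟨h3, h4⟩ := hD w
  rw [Nat.add_mul]
  omega

theorem nearW_iso (n : ℕ) {M N : X.Modules} (e : M ≅ N) : NearW k E n M N :=
  fun i => ⟨0, fun w => by rw [hiW_congr k E e i w]; simp⟩

variable [IsProper (X ↘ Spec (CommRingCat.of k))] {E} (hE : ∀ j, PicF.IsInvertible (E j)) {n : ℕ}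

include hE

/-- The three inequalities for twists by words. -/
theorem ineqsW {S : ShortComplex X.Modules} (hS : S.ShortExact)
    (h₁ : Coh.IsCoh S.X₁) (h₂ : Coh.IsCoh S.X₂) (h₃ : Coh.IsCoh S.X₃) (i : ℕ) (w : List J) :
    hiW k E S.X₁ i w ≤ hiW k E S.X₂ i w + hiW k E S.X₃ (i - 1) w ∧
      hiW k E S.X₂ i w ≤ hiW k E S.X₁ i w + hiW k E S.X₃ i w ∧
      hiW k E S.X₃ i w ≤ hiW k E S.X₂ i w + hiW k E S.X₁ (i + 1) w := by
  haveI := EulerIneqLib.isNoetherian_proper (X := X) k
  have hP := isInvertible_pw E hE w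
  have hPc := CurveLib.isCoh_of_isInvertible hP
  exact ineqs₀ k (CurveLib.shortExact_tensR hS fun x => CurveLib.freeAt_one_of_isInvertible hP x)
    (CurveLib.isCoh_tmod h₁ hPc) (CurveLib.isCoh_tmod h₂ hPc) (CurveLib.isCoh_tmod h₃ hPc) i

theorem nearW_of_small_right {S : ShortComplex X.Modules} (hS : S.ShortExact)
    (h₁ : Coh.IsCoh S.X₁) (h₂ : Coh.IsCoh S.X₂) (h₃ : Coh.IsCoh S.X₃) (h : BoundW k E S.X₃ n) :
    NearW k E n S.X₁ S.X₂ := fun i => by
  obtain ⟨C, hC⟩ := h i
  obtain ⟨D, hD⟩ := h (i - 1)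
  refine ⟨C + D, fun w => ?_⟩
  obtain ⟨e1, e2, -⟩ := ineqsW k hE hS h₁ h₂ h₃ i w
  have := hC w
  have := hD w
  rw [Nat.add_mul]
  omega

theorem nearW_of_small_left {S : ShortComplex X.Modules} (hS : S.ShortExact)
    (h₁ : Coh.IsCoh S.X₁) (h₂ : Coh.IsCoh S.X₂) (h₃ : Coh.IsCoh S.X₃) (h : BoundW k E S.X₁ n) :
    NearW k E n S.X₂ S.X₃ := fun i => by
  obtain ⟨C, hC⟩ := h i
  obtain ⟨D, hD⟩ := h (i + 1)
  refine ⟨C + D, fun w => ?_⟩
  obtain ⟨-, e2, e3⟩ := ineqsW k hE hS h₁ h₂ h₃ i w
  have := hC w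
  have := hD w
  rw [Nat.add_mul]
  omega

/-- A coherent module is near its torsion-free quotient. -/
theorem exists_tfW {ξ : X} {G : X.Modules} (hG : Coh.IsCoh G) (hGs : ∀ y ∈ CohB1.support G, ξ ⤳ y)
    (small : ∀ N : X.Modules, Coh.IsCoh N → (∀ y ∈ CohB1.support N, ξ ⤳ y) → ξ ∉ CohB1.support N →
      BoundW k E N n) :
    ∃ G' : X.Modules, Coh.IsCoh G' ∧ (∀ y ∈ CohB1.support G', ξ ⤳ y) ∧
      (∀ (V : X.Opens) (s : Γ(G', V)), (∀ hx : ξ ∈ V, G'.presheaf.germ V ξ hx s = 0) → s = 0) ∧
      Nonempty (G'.presheaf.stalk ξ ≃ₗ[X.presheaf.stalk ξ] G.presheaf.stalk ξ) ∧ NearW k E n G G' := by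
  haveI := EulerIneqLib.isNoetherian_proper (X := X) k
  obtain ⟨S, hS, h1, h2, h3, htf, hs3, hs1, hn1, ⟨e⟩, θ⟩ := exists_tfQuot (ξ := ξ) hG hGs
  exact ⟨S.X₃, h3, hs3, htf, θ,
    (nearW_iso k E n e.symm).trans k E (nearW_of_small_left k hE hS h1 h2 h3 (small _ h1 hs1 hn1))⟩

/-- Torsion-free modules with the same stalk, annihilated by the maximal ideal, are near. -/
theorem nearW_common {ξ : X} {Q G : X.Modules} (hQc : Coh.IsCoh Q) (hGc : Coh.IsCoh G)
    (hQs : ∀ y ∈ CohB1.support Q, ξ ⤳ y) (hGs : ∀ y ∈ CohB1.support G, ξ ⤳ y)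
    (hQtf : ∀ (V : X.Opens) (s : Γ(Q, V)), (∀ hx : ξ ∈ V, Q.presheaf.germ V ξ hx s = 0) → s = 0)
    (hGtf : ∀ (V : X.Opens) (s : Γ(G, V)), (∀ hx : ξ ∈ V, G.presheaf.germ V ξ hx s = 0) → s = 0)
    (hQk : ∀ a ∈ IsLocalRing.maximalIdeal (X.presheaf.stalk ξ), ∀ z : Q.presheaf.stalk ξ, a • z = 0)
    (θ : Q.presheaf.stalk ξ ≃ₗ[X.presheaf.stalk ξ] G.presheaf.stalk ξ)
    (small : ∀ N : X.Modules, Coh.IsCoh N → (∀ y ∈ CohB1.support N, ξ ⤳ y) → ξ ∉ CohB1.support N →
      BoundW k E N n) :
    NearW k E n Q G := by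
  haveI := EulerIneqLib.isNoetherian_proper (X := X) k
  obtain ⟨H, p, q, hH, hp, hq, hps, hqs⟩ := exists_common' hQc hGc hQtf hGtf hQk θ
  have cp := (isCoh_kernel_cokernel p hH hQc).2
  have cq := (isCoh_kernel_cokernel q hH hGc).2
  exact (NearW.symm k E (nearW_of_small_right k hE (S := cokerSeq p) (cokerSeq_shortExact p) hH hQc cp
      (small _ cp (supp_coker p hQs) (notMem_support_coker p hps)))).trans k E
    (nearW_of_small_right k hE (S := cokerSeq q) (cokerSeq_shortExact q) hH hGc cq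
      (small _ cq (supp_coker q hGs) (notMem_support_coker q hqs)))

/-- One step of twisting, for torsion-free modules with a stalk annihilated by the maximal ideal. -/
theorem nearW_step {ξ : X} {Q : X.Modules} (hQc : Coh.IsCoh Q) (hQs : ∀ y ∈ CohB1.support Q, ξ ⤳ y)
    (hQtf : ∀ (V : X.Opens) (s : Γ(Q, V)), (∀ hx : ξ ∈ V, Q.presheaf.germ V ξ hx s = 0) → s = 0)
    (hQk : ∀ a ∈ IsLocalRing.maximalIdeal (X.presheaf.stalk ξ), ∀ z : Q.presheaf.stalk ξ, a • z = 0)
    (small : ∀ N : X.Modules, Coh.IsCoh N → (∀ y ∈ CohB1.support N, ξ ⤳ y) → ξ ∉ CohB1.support N →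
      BoundW k E N n) (j : J) :
    NearW k E n (tmod Q (E j)) Q := by
  haveI := EulerIneqLib.isNoetherian_proper (X := X) k
  obtain ⟨G, hG, hGs, htf, ⟨θ⟩, hnear⟩ := exists_tfW k hE
    (CurveLib.isCoh_tmod hQc (CurveLib.isCoh_of_isInvertible (hE j)))
    (by rw [HilbLib.support_tensor (hE j)]; exact hQs) small
  obtain ⟨eL⟩ := HilbLib.nonempty_stalk_equiv (hE j) Q ξ
  exact hnear.trans k E ((nearW_common k hE hQc hG hQs hGs hQtf htf hQk (θ.trans eL).symm small).symm k E)

theorem hiW_cons (M : X.Modules) (i : ℕ) (j : J) (w : List J) :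
    hiW k E M i (j :: w) = hiW k E (tmod M (E j)) i w :=
  (hh_congr k (AmpleLib.assoc M (E j) (pw E w)) i).symm

/-- Cohomology of twists by words grows with the dimension of the support. -/
theorem boundW [Fintype J] : ∀ (n : ℕ) (M : X.Modules), Coh.IsCoh M →
    topologicalKrullDim (CohB1.support M) < (n : WithBot ℕ∞) → BoundW k E M n := by
  haveI := EulerIneqLib.isNoetherian_proper (X := X) k
  have hzero : ∀ (n : ℕ) (A : X.Modules), IsZero A → BoundW k E A n := fun n A hA i => ⟨0, fun w => by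
    have hz : IsZero (CohB1.tensorMod A (pw E w)) := (CurveLib.tensR (pw E w)).map_isZero hA
    haveI : Subsingleton (Coh.HH X (CohB1.tensorMod A (pw E w)) i) := subsingleton_HH_of_isZero hz i
    rw [zero_mul]
    exact Module.finrank_zero_of_subsingleton.le⟩
  intro n
  induction n with
  | zero =>
    intro M _ hd
    refine hzero _ _ (isZero_of_support_empty (Set.not_nonempty_iff_eq_empty.1 fun ⟨x, hx⟩ => ?_))
    haveI : Nonempty (CohB1.support M) := ⟨⟨x, hx⟩⟩
    haveI : Nonempty (IrreducibleCloseds (CohB1.support M)) :=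
      ⟨⟨closure {⟨x, hx⟩}, isIrreducible_singleton.closure, isClosed_closure⟩⟩
    have h0 : (0 : WithBot ℕ∞) ≤ topologicalKrullDim (CohB1.support M) := Order.krullDim_nonneg
    exact not_lt.2 h0 (by simpa using hd)
  | succ n ih =>
    intro M hM hd
    refine devissage (CohB1.support M) (fun N => BoundW k E N (n + 1))
      (fun A A' ⟨e⟩ h i => ?_) (hzero _) ?_ ?_ M hM subset_rfl
    · obtain ⟨C, hC⟩ := h i
      exact ⟨C, fun w => (hiW_congr k E e i w).symm.trans_le (hC w)⟩
    · intro S hS h₁ h₂ h₃ _ hP hQ i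
      obtain ⟨C, hC⟩ := hP i
      obtain ⟨D, hD⟩ := hQ i
      refine ⟨C + D, fun w => ((ineqsW k hE hS h₁ h₂ h₃ i w).2.1).trans ?_⟩
      rw [Nat.add_mul]
      exact Nat.add_le_add (hC w) (hD w)
    intro ξ _ hξT Q hQ _
    have hd' := HilbLib.isClosed_closure_le hξT hd
    have small : ∀ N : X.Modules, Coh.IsCoh N → (∀ y ∈ CohB1.support N, ξ ⤳ y) → ξ ∉ CohB1.support N →
        BoundW k E N n := fun N hN hs hξ => ih N hN (HilbLib.dim_lt_of_notMem (isClosed_support hN)
          (fun y hy => specializes_iff_mem_closure.1 (hs y hy)) hξ hd')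
    intro i
    choose C hC using fun j : J => nearW_step k hE hQ.coh hQ.supp hQ.tf (isTF_hk hQ) small j i
    refine ⟨hiW k E Q i [] + ∑ j, C j, fun w => ?_⟩
    induction w with
    | nil => simp [B]
    | cons j w ihw =>
      rw [hiW_cons k hE]
      have hj : C j ≤ hiW k E Q i [] + ∑ j, C j :=
        le_trans (Finset.single_le_sum (f := C) (fun _ _ => Nat.zero_le _) (Finset.mem_univ j)) (Nat.le_add_left _ _)
      refine ((hC j w).1).trans ((Nat.add_le_add ihw (Nat.mul_le_mul_right _ hj)).trans ?_)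
      rw [← Nat.mul_add]
      exact Nat.mul_le_mul_left _ (B_add_le n w.length)

/-- Twisting the structure module by one more factor changes little. -/
theorem nearW_tensor [IsIntegral X] [Fintype J] (hn : topologicalKrullDim X = n) (j : J) :
    NearW k E n (tmod (Coh.structureModule X) (E j)) (Coh.structureModule X) := by
  haveI := EulerIneqLib.isNoetherian_proper (X := X) k
  set η := genericPoint X with hη
  have hs : ∀ (M : X.Modules), ∀ y ∈ CohB1.support M, η ⤳ y := fun M y _ => genericPoint_specializes y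
  have hdim : topologicalKrullDim X < ((n + 1 : ℕ) : WithBot ℕ∞) := by
    rw [hn]; exact_mod_cast Nat.lt_succ_self n
  have small : ∀ N : X.Modules, Coh.IsCoh N → (∀ y ∈ CohB1.support N, η ⤳ y) → η ∉ CohB1.support N →
      BoundW k E N n := fun N hN _ hξ => boundW k hE n N hN (HilbLib.dim_lt_of_notMem (isClosed_support hN)
        (fun y _ => specializes_iff_mem_closure.1 (genericPoint_specializes y)) hξ
        (lt_of_le_of_lt Topology.IsInducing.subtypeVal.topologicalKrullDim_le hdim))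
  have hO := CurveLib.isCoh_of_isInvertible (ParaFLib.isInvertible_structureModule (X := X))
  obtain ⟨G, hG, -, htf, ⟨θ⟩, hO3⟩ := exists_tfW k hE (ξ := η) hO (hs _) small
  obtain ⟨G', hG', -, htf', ⟨θ'⟩, hO3'⟩ := exists_tfW k hE (ξ := η)
    (CurveLib.isCoh_tmod hO (CurveLib.isCoh_of_isInvertible (hE j))) (hs _) small
  obtain ⟨eL⟩ := HilbLib.nonempty_stalk_equiv (hE j) (Coh.structureModule X) η
  have hfield : IsField (X.presheaf.stalk η) := Field.toIsField X.functionField
  have hk : ∀ a ∈ IsLocalRing.maximalIdeal (X.presheaf.stalk η), ∀ z : G'.presheaf.stalk η, a • z = 0 := by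
    intro a ha z
    rw [IsLocalRing.isField_iff_maximalIdeal_eq.1 hfield, Ideal.mem_bot] at ha
    rw [ha, zero_smul]
  exact (hO3'.trans k E (nearW_common k hE hG' hG (hs _) (hs _) htf' htf hk
    ((θ'.trans eL).trans θ.symm) small)).trans k E (hO3.symm k E)

/-- The Lipschitz estimate in the words. -/
theorem lipschitz [IsIntegral X] [Fintype J] (hn : topologicalKrullDim X = n) (i : ℕ) :
    ∃ C : ℕ, ∀ v u : List J,
      hiW k E (Coh.structureModule X) i (v ++ u) ≤
          hiW k E (Coh.structureModule X) i u + C * v.length * B n (v.length + u.length) ∧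
        hiW k E (Coh.structureModule X) i u ≤
          hiW k E (Coh.structureModule X) i (v ++ u) + C * v.length * B n (v.length + u.length) := by
  choose C hC using fun j : J => nearW_tensor k hE hn j i
  refine ⟨∑ j, C j, fun v u => ?_⟩
  induction v with
  | nil => simp
  | cons j v ih =>
    obtain ⟨h1, h2⟩ := hC j (v ++ u)
    obtain ⟨h3, h4⟩ := ih
    have hj : C j * B n (v ++ u).length ≤ (∑ j, C j) * B n ((j :: v).length + u.length) :=
      Nat.mul_le_mul (Finset.single_le_sum (f := C) (fun _ _ => Nat.zero_le _) (Finset.mem_univ j))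
        (B_mono (by simp only [List.length_append, List.length_cons]; omega))
    have hv : (∑ j, C j) * v.length * B n (v.length + u.length) ≤
        (∑ j, C j) * v.length * B n ((j :: v).length + u.length) :=
      Nat.mul_le_mul_left _ (B_mono (by simp only [List.length_cons]; omega))
    have hexp : (∑ j, C j) * (j :: v).length * B n ((j :: v).length + u.length) =
        (∑ j, C j) * v.length * B n ((j :: v).length + u.length) +
          (∑ j, C j) * B n ((j :: v).length + u.length) := by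
      simp only [List.length_cons]; ring
    rw [List.cons_append, hiW_cons k hE, hexp]
    omega

end Groth.Agent.HiGrowth
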